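import Cfsg.Prelude.Def_Sporadic_a

/-!
Transport of automorphism groups of set systems along isomorphisms, and restriction of
permutations to a part of the point set.
-/

set_option autoImplicit false

namespace CfsgLib.SteinerUnique

open Cfsg
open scoped Pointwise

variable {α β : Type*} [Fintype α] [Fintype β] [DecidableEq α] [DecidableEq β]

omit [Fintype α] [DecidableEq β] [Fintype β] in
theorem smul_finset_eq_image (g : Equiv.Perm α) (s : Finset α) : g • s = s.image g := rfl

theorem mem_setSystemAut_iff {B : Set (Finset α)} {σ : Equiv.Perm α} :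
    σ ∈ setSystemAut B ↔ ∀ b ∈ B, b.image σ ∈ B := by
  rw [MulAction.mem_stabilizer_set_iff_smul_set_subset B.toFinite]
  exact ⟨fun h b hb => h (Set.smul_mem_smul_set hb), fun h => by rintro _ ⟨b, hb, rfl⟩; exact h b hb⟩

theorem mem_setSystemAut_permCongr {B : Set (Finset α)} {B' : Set (Finset β)} {e : α ≃ β}
    (he : (fun b => b.image e) '' B = B') {σ : Equiv.Perm α} (hσ : σ ∈ setSystemAut B) :
    e.permCongr σ ∈ setSystemAut B' := by
  subst he
  rw [mem_setSystemAut_iff] at hσ ⊢
  rintro _ ⟨b, hb, rfl⟩
  refine ⟨b.image σ, hσ b hb, ?_⟩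
  simp only [Finset.image_image]
  exact Finset.image_congr fun a _ => by simp

/-- isomorphic systems have isomorphic automorphism groups, compatibly with the actions -/
theorem exists_autEquiv {B : Set (Finset α)} {B' : Set (Finset β)} (h : SetSystemIso B B') :
    ∃ (e : α ≃ β) (Φ : setSystemAut B ≃* setSystemAut B'),
      ∀ g a, (Φ g).1 (e a) = e (g.1 a) := by
  obtain ⟨e, he⟩ := h
  have he' : (fun b : Finset β => b.image e.symm) '' B' = B := by
    subst he
    rw [Set.image_image]
    simp [Finset.image_image]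
  refine ⟨e,
    { toFun := fun g => ⟨e.permCongr g.1, mem_setSystemAut_permCongr he g.2⟩
      invFun := fun g => ⟨e.symm.permCongr g.1, mem_setSystemAut_permCongr he' g.2⟩
      left_inv := fun g => Subtype.ext (Equiv.ext fun a => by simp)
      right_inv := fun g => Subtype.ext (Equiv.ext fun a => by simp)
      map_mul' := fun g g' => Subtype.ext (Equiv.ext fun a => by simp [Equiv.permCongr]) },
    fun g a => ?_⟩
  simp

theorem isMultiplyPretransitive_transfer {B : Set (Finset α)} {B' : Set (Finset β)}
    (h : SetSystemIso B B') {m : ℕ}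
    (ht : MulAction.IsMultiplyPretransitive (setSystemAut B') β m) :
    MulAction.IsMultiplyPretransitive (setSystemAut B) α m := by
  obtain ⟨e, Φ, hΦ⟩ := exists_autEquiv h
  rw [MulAction.isMultiplyPretransitive_iff] at ht ⊢
  intro x y
  obtain ⟨g, hg⟩ := ht (x.trans e.toEmbedding) (y.trans e.toEmbedding)
  refine ⟨Φ.symm g, DFunLike.ext _ _ fun i => e.injective ?_⟩
  have h1 := DFunLike.congr_fun hg i
  have h2 := hΦ (Φ.symm g) (x i)
  rw [MulEquiv.apply_symm_apply] at h2
  exact h2.symm.trans h1

theorem stabilizer_eq_bot_transfer {B : Set (Finset α)} {B' : Set (Finset β)}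
    (h : SetSystemIso B B') {m : ℕ}
    (hs : ∀ x : Fin m ↪ β, MulAction.stabilizer (setSystemAut B') x = ⊥) :
    ∀ x : Fin m ↪ α, MulAction.stabilizer (setSystemAut B) x = ⊥ := by
  obtain ⟨e, Φ, hΦ⟩ := exists_autEquiv h
  intro x
  refine (Subgroup.eq_bot_iff_forall _).2 fun g hg => ?_
  have h1 : Φ g ∈ MulAction.stabilizer (setSystemAut B') (x.trans e.toEmbedding) := by
    refine MulAction.mem_stabilizer_iff.2 (DFunLike.ext _ _ fun i => ?_)
    exact (hΦ g (x i)).trans (congrArg e (DFunLike.congr_fun (MulAction.mem_stabilizer_iff.1 hg) i))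
  rw [hs, Subgroup.mem_bot] at h1
  exact Φ.injective (h1.trans (map_one Φ).symm)

end CfsgLib.SteinerUnique
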