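import Cfsg.Agent.Lib.KnownA.SteinerUnique.Systems
import Cfsg.Agent.Lib.KnownA.SteinerUnique.Transport

/-!
A search for the automorphisms of a labelled system fixing an initial segment of the labels.
-/

set_option autoImplicit false

namespace CfsgLib.SteinerUnique

open Cfsg CfsgLib.Spor
open scoped Pointwise

/-- extensions of a list of images to automorphisms -/
def autFix (n : ℕ) (std : List ℕ) : ℕ → List ℕ → List (List ℕ)
  | 0, l => [l]
  | f + 1, l => (List.range n).flatMap fun v =>
    if l.any (Nat.beq v) then []
    else if std.all (fun m => !(m.testBit l.length && Nat.blt m (1 <<< (l.length + 1))) ||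
        std.any (Nat.beq (actP (packL (l ++ [v])) m)))
      then autFix n std f (l ++ [v]) else []

/-- only the identity extends the fixed segment -/
def autFixOK (n : ℕ) (std : List ℕ) (r : ℕ) : Bool :=
  (autFix n std (n - r) (List.range r)).all fun l =>
    Nat.beq l.length n && (List.range n).all fun i => Nat.beq (l.getD i 0) i

variable {α : Type*} [Fintype α] [DecidableEq α] {n : ℕ}

omit [Fintype α] in
theorem enc_trans (E : α ≃ Fin n) (σ : Equiv.Perm α) (b : Finset α) :
    enc (σ.trans E) b = enc E (b.image σ) := by
  rw [enc, enc, Finset.image_image]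
  rfl

theorem stabilizer_eq_bot_of_autFix (hn : n ≤ 24) {B : Set (Finset α)} {std : List ℕ} {r : ℕ}
    (hr : r ≤ n) (hlab : Labelled B n std) (hcert : autFixOK n std r = true)
    (htr : MulAction.IsMultiplyPretransitive (setSystemAut B) α r) :
    ∀ x : Fin r ↪ α, MulAction.stabilizer (setSystemAut B) x = ⊥ := by
  obtain ⟨E, hE⟩ := hlab
  intro x
  refine (Subgroup.eq_bot_iff_forall _).2 fun g hg => ?_
  let x₀ : Fin r ↪ α := (Fin.castLEEmb hr).trans E.symm.toEmbedding
  obtain ⟨h, hh⟩ := MulAction.isMultiplyPretransitive_iff.1 htr x₀ x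
  have hg0 : h⁻¹ * g * h ∈ MulAction.stabilizer (setSystemAut B) x₀ := by
    refine MulAction.mem_stabilizer_iff.2 ?_
    calc (h⁻¹ * g * h) • x₀ = h⁻¹ • g • h • x₀ := (mul_smul _ _ _).trans (mul_smul _ _ _)
      _ = h⁻¹ • g • x := congrArg (fun z => h⁻¹ • g • z) hh
      _ = h⁻¹ • x := congrArg (fun z => h⁻¹ • z) (MulAction.mem_stabilizer_iff.1 hg)
      _ = x₀ := inv_smul_eq_iff.2 hh.symm
  suffices key : ∀ k ∈ MulAction.stabilizer (setSystemAut B) x₀, k = 1 by
    have := key _ hg0
    calc g = h * (h⁻¹ * g * h) * h⁻¹ := by group
      _ = 1 := by rw [this]; group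
  intro k hk
  let τ : Fin n → Fin n := fun i => E (k.1 (E.symm i))
  let fτ : ℕ → ℕ := fun i => if h : i < n then (τ ⟨i, h⟩).val else 0
  let pre : ℕ → List ℕ := fun j => (List.range j).map fτ
  have hfix : pre r = List.range r := by
    refine List.ext_getElem (by simp [pre]) fun i hi _ => ?_
    simp only [pre, List.length_map, List.length_range] at hi
    have h1 : k.1 (x₀ ⟨i, hi⟩) = x₀ ⟨i, hi⟩ :=
      DFunLike.congr_fun (MulAction.mem_stabilizer_iff.1 hk) ⟨i, hi⟩
    simp only [pre, List.getElem_map, List.getElem_range, fτ, τ, dif_pos (lt_of_lt_of_le hi hr)]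
    have h2 : x₀ ⟨i, hi⟩ = E.symm ⟨i, lt_of_lt_of_le hi hr⟩ := rfl
    rw [h2] at h1
    rw [h1, Equiv.apply_symm_apply]
  have step : ∀ f j, j + f = n → pre n ∈ autFix n std f (pre j) := by
    intro f
    induction f with
    | zero => intro j hj; obtain rfl : j = n := by omega
              simp [autFix]
    | succ f ih =>
      intro j hj
      have hjn : j < n := by omega
      rw [autFix, List.mem_flatMap]
      have hsucc : pre j ++ [fτ j] = pre (j + 1) := by simp [pre, List.range_succ]
      refine ⟨fτ j, List.mem_range.2 (by simp [fτ, hjn]), ?_⟩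
      rw [if_neg, if_pos]
      · rw [hsucc]; exact ih (j + 1) (by omega)
      · simp only [List.all_eq_true, Bool.or_eq_true, Bool.not_eq_true', Bool.and_eq_false_iff,
          List.any_eq_true, Nat.beq_eq]
        intro m hm
        by_cases hbit : m.testBit (pre j).length = true
        swap
        · exact Or.inl (Or.inl (by simpa using hbit))
        by_cases hlt : Nat.blt m (1 <<< ((pre j).length + 1)) = true
        swap
        · exact Or.inl (Or.inr (by rw [← Bool.not_eq_true]; exact hlt))
        right
        obtain ⟨b, hb, rfl⟩ := (show m ∈ encSet E B by rw [hE]; exact hm)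
        have hb' : b.image k.1 ∈ B := mem_setSystemAut_iff.1 k.2 b hb
        refine ⟨enc E (b.image k.1), ?_, ?_⟩
        · have : enc E (b.image k.1) ∈ encSet E B := ⟨_, hb', rfl⟩
          rwa [hE] at this
        · rw [hsucc]
          have hbits : ∀ i, (enc E b).testBit i = true → i < j + 1 := by
            intro i hi
            by_contra hc
            rw [Nat.blt_eq, Nat.one_shiftLeft] at hlt
            simp only [pre, List.length_map, List.length_range] at hlt
            rw [Nat.testBit_eq_false_of_lt (lt_of_lt_of_le hlt
              (Nat.pow_le_pow_right (by norm_num) (by omega)))] at hi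
            exact absurd hi (by decide)
          apply Nat.eq_of_testBit_eq
          intro q
          rw [Bool.eq_iff_iff, testBit_enc hn, actP, testBit_actAux]
          constructor
          · rintro ⟨i, hi24, hi, rfl⟩
            have hij := hbits i hi
            obtain ⟨a, ha, rfl⟩ := (testBit_enc hn E b i).1 hi
            refine ⟨k.1 a, Finset.mem_image_of_mem _ ha, ?_⟩
            rw [getP_packL _ _ (by simpa [pre] using hij)]
            simp only [pre, List.getElem_map, List.getElem_range, fτ, τ, dif_pos (E a).2]
            rw [Nat.mod_eq_of_lt (by omega)]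
            simp
          · rintro ⟨c, hc, rfl⟩
            obtain ⟨a, ha, rfl⟩ := Finset.mem_image.1 hc
            have hi := (testBit_enc hn E b (E a).val).2 ⟨a, ha, rfl⟩
            refine ⟨(E a).val, lt_of_lt_of_le (E a).2 hn, hi, ?_⟩
            rw [getP_packL _ _ (by simpa [pre] using hbits _ hi)]
            simp only [pre, List.getElem_map, List.getElem_range, fτ, τ, dif_pos (E a).2]
            rw [Nat.mod_eq_of_lt (by omega)]
            simp
      · simp only [List.any_eq_true, Nat.beq_eq, not_exists, not_and]
        intro y hy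
        obtain ⟨i, hi, rfl⟩ := List.mem_map.1 hy
        rw [List.mem_range] at hi
        intro e
        simp only [fτ, τ, dif_pos hjn, dif_pos (show i < n by omega)] at e
        have := E.symm.injective (k.1.injective (E.injective (Fin.ext e)))
        rw [Fin.mk.injEq] at this
        omega
  have hall := List.all_eq_true.1 hcert _ (hfix ▸ step (n - r) r (by omega))
  simp only [Bool.and_eq_true, List.all_eq_true, List.mem_range, Nat.beq_eq] at hall
  refine Subtype.ext (Equiv.ext fun a => ?_)
  have h1 := hall.2 (E a).val (E a).2
  rw [List.getD_eq_getElem _ _ (by simp [pre])] at h1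
  simp only [pre, List.getElem_map, List.getElem_range, fτ, τ, dif_pos (E a).2] at h1
  have := E.injective (Fin.ext h1)
  simpa using this

theorem natCard_aut_le_of_sharp {B : Set (Finset α)} {r : ℕ}
    (htr : MulAction.IsMultiplyPretransitive (setSystemAut B) α r)
    (hs : ∀ x : Fin r ↪ α, MulAction.stabilizer (setSystemAut B) x = ⊥) (x : Fin r ↪ α) :
    Nat.card (setSystemAut B) ≤ Nat.card (Fin r ↪ α) := by
  refine Nat.card_le_card_of_injective (fun g : setSystemAut B => g • x) fun g g' h => ?_
  have h' : g • x = g' • x := h
  have : g'⁻¹ * g ∈ MulAction.stabilizer (setSystemAut B) x := by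
    refine MulAction.mem_stabilizer_iff.2 ?_
    exact (mul_smul _ _ _).trans
      ((congrArg (fun z => g'⁻¹ • z) h').trans (inv_smul_smul g' x))
  rw [hs, Subgroup.mem_bot, inv_mul_eq_one] at this
  exact this.symm

set_option maxRecDepth 100000 in
theorem autFix11 : autFixOK 11 std11 4 = true := by decide +kernel

set_option maxRecDepth 100000 in
theorem autFix12 : autFixOK 12 std12 5 = true := by decide +kernel

end CfsgLib.SteinerUnique
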