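import Cfsg.Agent.Lib.KnownA.SteinerUnique.Transport
import Cfsg.Agent.Lib.Spor.MathieuSimple
import Cfsg.Agent.Lib.Spor.DodecadOctad

/-!
The derived systems of the octads as set systems on parts of the 24 points, and restriction of
the stabilisers in `Cfsg.M24`.
-/

set_option autoImplicit false

namespace CfsgLib.SteinerUnique

open Cfsg CfsgLib.Spor
open scoped Pointwise

/-- the traces on `P` of the octads containing `D` that meet `P` in `k` points -/
def model (P D : Finset GolayPt) (k : ℕ) : Set (Finset {x : GolayPt // x ∈ P}) :=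
  {h | ∃ o ∈ octads, D ⊆ o ∧ (o ∩ P).card = k ∧ h = Finset.subtype (fun x => x ∈ P) o}

theorem model_isSteiner {P D : Finset GolayPt} {t k : ℕ} (hPD : Disjoint P D)
    (ht : t + D.card = 5)
    (hk : ∀ o ∈ octads, D ⊆ o → t ≤ (o ∩ P).card → (o ∩ P).card = k) :
    IsSteinerSystem t k (model P D k) := by
  have hcard : ∀ o : Finset GolayPt,
      (Finset.subtype (fun x => x ∈ P) o).card = (o ∩ P).card := fun o => by
    rw [Finset.card_subtype, Finset.filter_mem_eq_inter]
  have hsub : ∀ (u : Finset {x : GolayPt // x ∈ P}) (o : Finset GolayPt),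
      u ⊆ Finset.subtype (fun x => x ∈ P) o ↔ u.map (Function.Embedding.subtype _) ⊆ o := by
    intro u o
    simp [Finset.subset_iff, Finset.mem_subtype]
  refine ⟨?_, fun u hu => ?_⟩
  · rintro _ ⟨o, -, -, h6, rfl⟩
    rw [hcard, h6]
  · have hd : Disjoint (u.map (Function.Embedding.subtype _)) D := by
      rw [Finset.disjoint_left]
      intro x hx
      obtain ⟨y, -, rfl⟩ := Finset.mem_map.1 hx
      exact Finset.disjoint_left.1 hPD y.2
    have hu' : (u.map (Function.Embedding.subtype _) ∪ D).card = 5 := by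
      rw [Finset.card_union_of_disjoint hd, Finset.card_map, hu, ht]
    obtain ⟨o, ⟨ho, hso⟩, huniq⟩ := isSteinerSystem_octads.2 _ hu'
    rw [Finset.union_subset_iff] at hso
    have h5 : t ≤ (o ∩ P).card := by
      rw [← hcard, ← hu]
      exact Finset.card_le_card ((hsub u o).2 hso.1)
    refine ⟨_, ⟨⟨o, ho, hso.2, hk o ho hso.2 h5, rfl⟩, (hsub u o).2 hso.1⟩, ?_⟩
    rintro _ ⟨⟨o', ho', hDo', -, rfl⟩, hsu⟩
    rw [huniq o' ⟨ho', Finset.union_subset ((hsub u o').1 hsu) hDo'⟩]

/-- the elements of `M24` fixing `P` and `D` setwise -/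
def fixPD (P D : Finset GolayPt) : Subgroup M24 :=
  MulAction.stabilizer M24 P ⊓ MulAction.stabilizer M24 D

theorem mem_fixPD {P D : Finset GolayPt} {g : M24} :
    g ∈ fixPD P D ↔ (g : Equiv.Perm GolayPt) • P = P ∧ (g : Equiv.Perm GolayPt) • D = D :=
  Iff.rfl

theorem apply_mem_iff {g : Equiv.Perm GolayPt} {P : Finset GolayPt} (h : g • P = P)
    (x : GolayPt) : g x ∈ P ↔ x ∈ P := by
  conv_lhs => rw [← h, ← Equiv.Perm.smul_def g x, Finset.smul_mem_smul_finset_iff]

/-- restriction to `P` -/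
def restrictP (P D : Finset GolayPt) : fixPD P D →* Equiv.Perm {x : GolayPt // x ∈ P} where
  toFun g := ((g : M24) : Equiv.Perm GolayPt).subtypePerm fun x => (apply_mem_iff g.2.1 x).symm.symm
  map_one' := Equiv.ext fun _ => rfl
  map_mul' _ _ := Equiv.ext fun _ => rfl

theorem restrictP_apply {P D : Finset GolayPt} (g : fixPD P D) (x : {x : GolayPt // x ∈ P}) :
    ((restrictP P D g x) : GolayPt) = ((g : M24) : Equiv.Perm GolayPt) x := rfl

theorem restrictP_mem (P D : Finset GolayPt) (k : ℕ) (g : fixPD P D) :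
    restrictP P D g ∈ setSystemAut (model P D k) := by
  rw [mem_setSystemAut_iff]
  rintro _ ⟨o, ho, hD, hc, rfl⟩
  have key : ∀ σ : Equiv.Perm GolayPt, σ • P = P → σ • D = D →
      D ⊆ σ • o ∧ (σ • o ∩ P).card = k := by
    intro σ hσP hσD
    constructor
    · have := Finset.smul_finset_subset_smul_finset (a := σ) hD
      rwa [hσD] at this
    · have : σ • o ∩ P = σ • (o ∩ P) := by rw [Finset.smul_finset_inter, hσP]
      rw [this, Finset.card_smul_finset, hc]
  refine ⟨((g : M24) : Equiv.Perm GolayPt) • o, smul_octad_mem (g : M24).2 ho,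
    (key _ g.2.1 g.2.2).1, (key _ g.2.1 g.2.2).2, ?_⟩
  ext x
  simp only [Finset.mem_image, Finset.mem_subtype, Finset.mem_smul_finset]
  constructor
  · rintro ⟨y, hy, rfl⟩
    exact ⟨y, hy, rfl⟩
  · rintro ⟨y, hy, hyx⟩
    rw [Equiv.Perm.smul_def] at hyx
    have hyP : y ∈ P := (apply_mem_iff g.2.1 y).1 (hyx ▸ x.2)
    exact ⟨⟨y, hyP⟩, hy, Subtype.ext hyx⟩

/-- restriction into the automorphism group of the model -/
def toAut (P D : Finset GolayPt) (k : ℕ) : fixPD P D →* setSystemAut (model P D k) :=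
  (restrictP P D).codRestrict _ (restrictP_mem P D k)

theorem toAut_apply {P D : Finset GolayPt} {k : ℕ} (g : fixPD P D)
    (x : {x : GolayPt // x ∈ P}) :
    (((toAut P D k g).1 x) : GolayPt) = ((g : M24) : Equiv.Perm GolayPt) x := rfl

theorem toAut_injective (P D : Finset GolayPt) (k : ℕ) (hP : 9 ≤ P.card) :
    Function.Injective (toAut P D k) := by
  rw [injective_iff_map_eq_one]
  intro g hg
  refine Subtype.ext (Subtype.ext (eq_one_of_nine_fixed (g : M24).2 P hP fun x hx => ?_))
  have := congrArg (fun f : setSystemAut (model P D k) => ((f.1 ⟨x, hx⟩ : {x // x ∈ P}) : GolayPt)) hg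
  exact this

/-- transitivity of the automorphism group from that of the stabiliser -/
theorem isMultiplyPretransitive_model {P D : Finset GolayPt} {k m : ℕ}
    (h : ∀ x y : Fin m ↪ {x : GolayPt // x ∈ P},
      ∃ g ∈ M24, g • P = P ∧ g • D = D ∧ ∀ i, g (x i).1 = (y i).1) :
    MulAction.IsMultiplyPretransitive (setSystemAut (model P D k)) {x : GolayPt // x ∈ P} m := by
  rw [MulAction.isMultiplyPretransitive_iff]
  intro x y
  obtain ⟨g, hg, hP, hD, hxy⟩ := h x y
  refine ⟨toAut P D k ⟨⟨g, hg⟩, mem_fixPD.2 ⟨hP, hD⟩⟩, DFunLike.ext _ _ fun i => Subtype.ext ?_⟩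
  exact hxy i

theorem smul_univ_erase {g : Equiv.Perm GolayPt} {D : Finset GolayPt} (h : g • D = D) :
    g • (Finset.univ \ D) = Finset.univ \ D := by
  rw [Finset.smul_finset_sdiff, h, Finset.smul_finset_univ]

end CfsgLib.SteinerUnique
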