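import Cfsg.Agent.Lib.KnownA.SteinerUnique.AutFix
import Cfsg.Agent.Lib.KnownA.SteinerUnique.Models
import Cfsg.Prelude.Def_Sporadic

/-!
Automorphism groups of S(5, 8, 24), S(4, 7, 23) and S(3, 6, 22).
-/

set_option autoImplicit false

namespace CfsgLib.SteinerUnique

open Cfsg CfsgLib.Spor
open scoped Pointwise

/-- the extra point -/
def pInf : GolayPt := pt 23

/-- a second point -/
def pTwo : GolayPt := pt 22

/-- all points but the extra one -/
def P23 : Finset GolayPt := Finset.univ \ {pInf}

/-- all points but two -/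
def P22 : Finset GolayPt := Finset.univ \ {pInf, pTwo}

theorem pInf_ne_pTwo : pInf ≠ pTwo := by decide

theorem card_P23 : Fintype.card {x : GolayPt // x ∈ P23} = 23 := by
  rw [Fintype.card_coe]; decide

theorem card_P22 : Fintype.card {x : GolayPt // x ∈ P22} = 22 := by
  rw [Fintype.card_coe]; decide

theorem card_inter_compl {o D : Finset GolayPt} (ho : o ∈ octads) (h : D ⊆ o) :
    (o ∩ (Finset.univ \ D)).card = 8 - D.card := by
  rw [show o ∩ (Finset.univ \ D) = o \ D by ext; simp, Finset.card_sdiff_of_subset h,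
    card_octad ho]

theorem model23_isSteiner : IsSteinerSystem 4 7 (model P23 {pInf} 7) := by
  refine model_isSteiner Finset.sdiff_disjoint (by simp) fun o ho hp _ => ?_
  rw [P23, card_inter_compl ho hp, Finset.card_singleton]

theorem model22_isSteiner : IsSteinerSystem 3 6 (model P22 {pInf, pTwo} 6) := by
  refine model_isSteiner Finset.sdiff_disjoint (by rw [Finset.card_pair pInf_ne_pTwo])
    fun o ho hp _ => ?_
  rw [P22, card_inter_compl ho hp, Finset.card_pair pInf_ne_pTwo]

set_option maxRecDepth 100000 in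
theorem known_checks :
    ((known24.all fun m => inCode m && Nat.beq (pop m) 8 && Nat.blt m 16777216 && m.testBit 23) &&
      known23.all fun m => inCode (m ||| (1 <<< 23)) && Nat.beq (pop (m ||| (1 <<< 23))) 8 &&
        Nat.blt (m ||| (1 <<< 23)) 16777216 && m.testBit 22 && Nat.blt m 8388608) = true := by
  decide +kernel

theorem mem_pInf_iff {m : ℕ} : pInf ∈ toSet m ↔ m.testBit 23 = true := by
  rw [pInf, mem_toSet, idx_pt (by norm_num)]

/-- a permutation fixing the extra point and preserving the octads through it preserves all -/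
theorem mem_M24_of_derived {σ : Equiv.Perm GolayPt}
    (h : ∀ o ∈ octads, pInf ∈ o → σ • o ∈ octads) : σ ∈ M24 := by
  rw [M24_eq_setSystemAut_octads, mem_setSystemAut_iff]
  intro o ho
  have hm := mem_octads.1 ho
  obtain ⟨i, hi, he⟩ := List.getElem_of_mem hm
  have hc := cert24
  simp only [Bool.and_eq_true, Nat.beq_eq, List.all_eq_true, Bool.or_eq_true,
    List.any_eq_true] at hc
  have hk := known_checks
  simp only [Bool.and_eq_true, List.all_eq_true, Nat.beq_eq, Nat.blt_eq] at hk
  have hoct : ∀ y ∈ known24, toSet y ∈ octads ∧ pInf ∈ toSet y := fun y hy => by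
    obtain ⟨⟨⟨h1, h2⟩, h3⟩, h4⟩ := hk.1 y hy
    exact ⟨toSet_mem_octads h1 h2 h3, mem_pInf_iff.2 h4⟩
  rcases hc.2 (octadList[i], part24[i]'(hc.1 ▸ hi)) (List.mem_iff_getElem.2
    ⟨i, by rw [List.length_zip, ← hc.1]; simpa using hi, by rw [List.getElem_zip]⟩) with
    ⟨hbit, -⟩ | ⟨⟨⟨y, hy, e⟩, ⟨z, hz, e'⟩⟩, h4⟩
  · rw [← smul_finset_eq_image]
    refine h o ho ?_
    rw [← toSet_mask o, mem_pInf_iff, ← he]
    exact hbit
  · obtain ⟨hyo, hyp⟩ := hoct y hy
    obtain ⟨hzo, hzp⟩ := hoct z hz
    have ho' : o = symmDiff (toSet y) (toSet z) := by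
      rw [← toSet_xor, ← toSet_mask o, ← he, ← e, ← e']
      simp [← Nat.xor_assoc]
    have h4' : (σ • toSet y ∩ σ • toSet z).card = 4 := by
      rw [← Finset.smul_finset_inter, Finset.card_smul_finset, ← toSet_and, card_toSet, ← e, ← e']
      exact h4
    rw [← smul_finset_eq_image, ho', Finset.smul_finset_symmDiff]
    exact s5824_symmDiff_mem card_golayPt isSteinerSystem_octads (h _ hyo hyp) (h _ hzo hzp) h4'

theorem smul_singleton_iff {g : Equiv.Perm GolayPt} {a : GolayPt} :
    g • ({a} : Finset GolayPt) = {a} ↔ g a = a := by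
  rw [Finset.smul_finset_singleton, Finset.singleton_inj, Equiv.Perm.smul_def]

theorem extend_apply_of_notMem {P : Finset GolayPt} (g : Equiv.Perm {x : GolayPt // x ∈ P})
    {x : GolayPt} (hx : x ∉ P) : Equiv.Perm.ofSubtype g x = x :=
  Equiv.Perm.ofSubtype_apply_of_not_mem g hx

theorem subtype_smul_eq {P : Finset GolayPt} (g : Equiv.Perm {x : GolayPt // x ∈ P})
    (o : Finset GolayPt) :
    Finset.subtype (fun x => x ∈ P) (Equiv.Perm.ofSubtype g • o) =
      (Finset.subtype (fun x => x ∈ P) o).image g := by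
  ext x
  simp only [Finset.mem_subtype, Finset.mem_smul_finset, Finset.mem_image, Equiv.Perm.smul_def]
  constructor
  · rintro ⟨y, hy, hyx⟩
    by_cases hyP : y ∈ P
    · refine ⟨⟨y, hyP⟩, hy, Subtype.ext ?_⟩
      rw [← hyx, Equiv.Perm.ofSubtype_apply_of_mem g hyP]
    · rw [extend_apply_of_notMem g hyP] at hyx
      exact absurd (hyx ▸ x.2) hyP
  · rintro ⟨y, hy, rfl⟩
    exact ⟨y, hy, Equiv.Perm.ofSubtype_apply_of_mem g y.2⟩

/-- the octad with a given trace -/
theorem smul_mem_octads_of_aut {P D : Finset GolayPt} {k : ℕ} (hP : P = Finset.univ \ D)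
    {g : Equiv.Perm {x : GolayPt // x ∈ P}} (hg : g ∈ setSystemAut (model P D k))
    {o : Finset GolayPt} (ho : o ∈ octads) (hD : D ⊆ o) (hk : (o ∩ P).card = k) :
    Equiv.Perm.ofSubtype g • o ∈ octads := by
  obtain ⟨o', ho', hD', -, heq⟩ := mem_setSystemAut_iff.1 hg _ ⟨o, ho, hD, hk, rfl⟩
  rw [← subtype_smul_eq] at heq
  have : Equiv.Perm.ofSubtype g • o = o' := by
    ext x
    by_cases hx : x ∈ P
    · have h := Finset.ext_iff.1 heq ⟨x, hx⟩
      simpa only [Finset.mem_subtype] using h
    · have hxD : x ∈ D := by simpa [hP] using hx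
      refine iff_of_true ?_ (hD' hxD)
      exact Finset.mem_smul_finset.2 ⟨x, hD hxD, extend_apply_of_notMem g hx⟩
  rw [this]; exact ho'

theorem isM23_model : IsM23 (setSystemAut (model P23 {pInf} 7)) := by
  have hK : fixPD P23 {pInf} = MulAction.stabilizer M24 pInf := by
    ext g
    rw [mem_fixPD, MulAction.mem_stabilizer_iff]
    show _ ↔ (g : Equiv.Perm GolayPt) pInf = pInf
    exact ⟨fun h => smul_singleton_iff.1 h.2, fun h =>
      ⟨smul_univ_erase (smul_singleton_iff.2 h), smul_singleton_iff.2 h⟩⟩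
  have hinj := toAut_injective P23 {pInf} 7 (by decide)
  have hsurj : Function.Surjective (toAut P23 {pInf} 7) := by
    rintro ⟨g, hg⟩
    have hfix : Equiv.Perm.ofSubtype g pInf = pInf :=
      extend_apply_of_notMem g (by decide)
    have hM : Equiv.Perm.ofSubtype g ∈ M24 := mem_M24_of_derived fun o ho hp =>
      smul_mem_octads_of_aut rfl hg ho (Finset.singleton_subset_iff.2 hp) (by
        show (o ∩ (Finset.univ \ {pInf})).card = 7
        rw [card_inter_compl ho (Finset.singleton_subset_iff.2 hp), Finset.card_singleton])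
    refine ⟨⟨⟨_, hM⟩, mem_fixPD.2 ⟨smul_univ_erase (smul_singleton_iff.2 hfix),
      smul_singleton_iff.2 hfix⟩⟩, Subtype.ext (Equiv.ext fun x => Subtype.ext ?_)⟩
    exact Equiv.Perm.ofSubtype_apply_of_mem g x.2
  have e := MulEquiv.ofBijective _ ⟨hinj, hsurj⟩
  have hs : IsSimpleGroup (fixPD P23 {pInf}) := by rw [hK]; exact isSimpleGroup_stab_point pInf
  refine ⟨e.symm.isSimpleGroup, ?_⟩
  rw [← Nat.card_congr e.toEquiv, hK]
  exact natCard_stab_point pInf

/-- labels of the points other than the extra one -/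
noncomputable def label23 : {x : GolayPt // x ∈ P23} ≃ Fin 23 :=
  Equiv.ofBijective (fun x => ⟨idx x.1, by
      have hx : ∀ y ∈ P23, idx y < 23 := by decide
      exact hx x.1 x.2⟩)
    ((Fintype.bijective_iff_injective_and_card _).2 ⟨fun x y h =>
      Subtype.ext (idx_injective (congrArg Fin.val h)), by rw [card_P23, Fintype.card_fin]⟩)

theorem enc_label23 {m : ℕ} (hm : m < 8388608) :
    enc label23 (Finset.subtype (fun x => x ∈ P23) (toSet (m ||| (1 <<< 23)))) = m := by
  apply Nat.eq_of_testBit_eq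
  intro j
  rw [Bool.eq_iff_iff, testBit_enc (by norm_num)]
  constructor
  · rintro ⟨x, hx, rfl⟩
    rw [Finset.mem_subtype, mem_toSet, testBit_or_bit] at hx
    rcases hx with h | h
    · exact h
    · have hne : ∀ y ∈ P23, idx y ≠ 23 := by decide
      exact absurd h.symm (hne x.1 x.2)
  · intro hj
    have hj23 : j < 23 := by
      by_contra hc
      rw [Nat.testBit_eq_false_of_lt (lt_of_lt_of_le (show m < 2 ^ 23 by simpa using hm)
        (Nat.pow_le_pow_right (by norm_num) (by omega)))] at hj
      exact absurd hj (by decide)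
    have hP : ∀ i < 23, pt i ∈ P23 := by decide
    refine ⟨⟨pt j, hP j hj23⟩, ?_, ?_⟩
    · rw [Finset.mem_subtype, mem_toSet, testBit_or_bit, idx_pt (by omega)]
      exact Or.inl hj
    · exact idx_pt (by omega)

theorem exists_list_fix {l l' : List GolayPt} (hl : l.Nodup) (hl' : l'.Nodup)
    (hlen : l.length = l'.length) (h5 : l.length ≤ 5) : ∃ g ∈ M24, l.map g = l' :=
  exists_list_map_M24 hl hl' hlen h5

/-- fixing both points -/
def bothFixed : Subgroup (setSystemAut (model P22 {pInf, pTwo} 6)) :=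
  ((MulAction.stabilizer M24 pInf ⊓ MulAction.stabilizer M24 pTwo).subgroupOf
    (fixPD P22 {pInf, pTwo})).map (toAut P22 {pInf, pTwo} 6)

theorem stab_two_le : MulAction.stabilizer M24 pInf ⊓ MulAction.stabilizer M24 pTwo ≤
    fixPD P22 {pInf, pTwo} := by
  intro g hg
  have h : (g : Equiv.Perm GolayPt) • ({pInf, pTwo} : Finset GolayPt) = {pInf, pTwo} := by
    rw [Finset.insert_eq, Finset.smul_finset_union,
      smul_singleton_iff.2 (show (g : Equiv.Perm GolayPt) pInf = pInf from hg.1),
      smul_singleton_iff.2 (show (g : Equiv.Perm GolayPt) pTwo = pTwo from hg.2)]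
  exact mem_fixPD.2 ⟨smul_univ_erase h, h⟩

theorem natCard_bothFixed : Nat.card bothFixed = 443520 := by
  rw [bothFixed, Subgroup.card_map_of_injective (toAut_injective _ _ _ (by decide)),
    Nat.card_congr (Subgroup.subgroupOfEquivOfLe stab_two_le).toEquiv,
    natCard_stab_two pInf_ne_pTwo]

theorem exists_key22 (g : setSystemAut (model P22 {pInf, pTwo} 6)) :
    ∃ e ∈ wit23, ∃ σ : Equiv.Perm {x : GolayPt // x ∈ P23}, ∃ E₂ : {x : GolayPt // x ∈ P23} ≃ Fin 23,
      (∀ x, ((σ x : {x : GolayPt // x ∈ P23}) : GolayPt) = Equiv.Perm.ofSubtype g.1 x.1) ∧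
      (∀ b, enc E₂ b = actP e.2 (enc (σ.trans label23) b)) ∧
      encSet E₂ (model P23 {pInf} 7) = {m | m ∈ std23} := by
  set G := Equiv.Perm.ofSubtype g.1
  have hfix : G pInf = pInf := extend_apply_of_notMem g.1 (by decide)
  have hP : G • P23 = P23 := smul_univ_erase (smul_singleton_iff.2 hfix)
  let σ : Equiv.Perm {x : GolayPt // x ∈ P23} :=
    G.subtypePerm fun x => (apply_mem_iff hP x).symm.symm
  have hσ : ∀ x, ((σ x : {x : GolayPt // x ∈ P23}) : GolayPt) = G x.1 := fun x => rfl
  have hknown : ∀ y ∈ known23, y ∈ encSet (σ.trans label23) (model P23 {pInf} 7) := by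
    intro y hy
    have hk := known_checks
    simp only [Bool.and_eq_true, List.all_eq_true, Nat.beq_eq, Nat.blt_eq] at hk
    obtain ⟨⟨⟨⟨h1, h2⟩, h3⟩, h22⟩, hlt⟩ := hk.2 y hy
    have ho := toSet_mem_octads h1 h2 h3
    set o := toSet (y ||| (1 <<< 23))
    have hpI : pInf ∈ o := by
      rw [mem_pInf_iff, testBit_or_bit]; exact Or.inr rfl
    have hpT : pTwo ∈ o := by
      rw [pTwo, mem_toSet, idx_pt (by norm_num), testBit_or_bit]; exact Or.inl h22
    have hD : ({pInf, pTwo} : Finset GolayPt) ⊆ o := by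
      simp [Finset.insert_subset_iff, hpI, hpT]
    have hinv : G⁻¹ • o ∈ octads := by
      have := smul_mem_octads_of_aut (P := P22) (D := {pInf, pTwo}) rfl
        (Subgroup.inv_mem _ g.2) ho hD (by
          rw [P22, card_inter_compl ho hD, Finset.card_pair pInf_ne_pTwo])
      rwa [map_inv] at this
    have hpI' : pInf ∈ G⁻¹ • o := by
      rw [Finset.mem_inv_smul_finset_iff, Equiv.Perm.smul_def, hfix]; exact hpI
    refine ⟨Finset.subtype (fun x => x ∈ P23) (G⁻¹ • o),
      ⟨G⁻¹ • o, hinv, Finset.singleton_subset_iff.2 hpI', ?_, rfl⟩, ?_⟩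
    · rw [P23, card_inter_compl hinv (Finset.singleton_subset_iff.2 hpI'), Finset.card_singleton]
    · rw [enc_trans]
      refine Eq.trans (congrArg _ ?_) (enc_label23 hlt)
      ext x
      simp only [Finset.mem_image, Finset.mem_subtype, Finset.mem_inv_smul_finset_iff,
        Equiv.Perm.smul_def]
      constructor
      · rintro ⟨z, hz, rfl⟩; rw [hσ]; exact hz
      · intro hx
        refine ⟨σ.symm x, ?_, by simp⟩
        rw [← hσ, Equiv.apply_symm_apply]
        exact hx
  obtain ⟨e, he, hx⟩ := exists_first23 card_P23 model23_isSteiner hknown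
  obtain ⟨E₂, h1, h2⟩ := encSet23_of_first card_P23 model23_isSteiner hknown he hx
  exact ⟨e, he, σ, E₂, hσ, h1, h2⟩

theorem index_bothFixed_le : bothFixed.index ≤ 2 := by
  choose key hkey σ E₂ hσ hE₂ hstd using exists_key22
  have hmem : ∀ g g', key g = key g' → g⁻¹ * g' ∈ bothFixed := by
    intro g g' hk
    set G := Equiv.Perm.ofSubtype g.1
    set G' := Equiv.Perm.ofSubtype g'.1
    have hfix : ∀ x, x ∉ P22 → (G⁻¹ * G') x = x := by
      intro x hx
      rw [Equiv.Perm.mul_apply, show G' x = x from extend_apply_of_notMem g'.1 hx,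
        Equiv.Perm.inv_eq_iff_eq]
      exact (extend_apply_of_notMem g.1 hx).symm
    have hM : G⁻¹ * G' ∈ M24 := by
      refine mem_M24_of_derived fun o ho hp => ?_
      have hb : Finset.subtype (fun x => x ∈ P23) o ∈ model P23 {pInf} 7 :=
        ⟨o, ho, Finset.singleton_subset_iff.2 hp, by
          rw [P23, card_inter_compl ho (Finset.singleton_subset_iff.2 hp), Finset.card_singleton], rfl⟩
      set b := Finset.subtype (fun x => x ∈ P23) o
      obtain ⟨b', hb', hbb'⟩ : enc (E₂ g') b ∈ encSet (E₂ g) (model P23 {pInf} 7) := by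
        rw [hstd g, ← hstd g']; exact ⟨b, hb, rfl⟩
      have hc : b.image ((σ g').trans (σ g).symm) = b' := by
        refine enc_injective (by norm_num) (E₂ g) ?_
        rw [hbb', hE₂ g, hE₂ g', hk, enc_trans, enc_trans, Finset.image_image]
        congr 2
        exact Finset.image_congr fun x _ => by simp
      obtain ⟨o', ho', hp', -, rfl⟩ := hb'
      rw [Finset.singleton_subset_iff] at hp'
      have hoo : (G⁻¹ * G') • o = o' := by
        ext x
        rw [Finset.mem_smul_finset]
        by_cases hx : x ∈ P23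
        · have h := Finset.ext_iff.1 hc ⟨x, hx⟩
          simp only [Finset.mem_image, Finset.mem_subtype, Equiv.trans_apply] at h
          rw [← h]
          constructor
          · rintro ⟨y, hy, rfl⟩
            have hyP : y ∈ P23 := by
              simp only [P23, Finset.mem_sdiff, Finset.mem_univ, true_and, Finset.mem_singleton]
                at hx ⊢
              rintro rfl
              exact hx (hfix _ (by decide))
            refine ⟨⟨y, hyP⟩, Finset.mem_subtype.2 hy, ?_⟩
            rw [Equiv.symm_apply_eq]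
            refine Subtype.ext ?_
            rw [hσ, hσ]
            simp [G, G', Equiv.Perm.smul_def]
          · rintro ⟨y, hy, hyx⟩
            refine ⟨y.1, Finset.mem_subtype.1 hy, ?_⟩
            rw [Equiv.symm_apply_eq] at hyx
            have h2 := congrArg Subtype.val hyx
            rw [hσ, hσ] at h2
            rw [Equiv.Perm.smul_def, Equiv.Perm.mul_apply, Equiv.Perm.inv_eq_iff_eq]
            exact h2
        · have hxI : x = pInf := by simpa [P23] using hx
          subst hxI
          exact iff_of_true ⟨pInf, hp, hfix _ (by decide)⟩ hp'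
      rw [hoo]; exact ho'
    have hI : (G⁻¹ * G') pInf = pInf := hfix _ (by decide)
    have hT : (G⁻¹ * G') pTwo = pTwo := hfix _ (by decide)
    refine Subgroup.mem_map.2 ⟨⟨⟨_, hM⟩, stab_two_le ⟨hI, hT⟩⟩,
      Subgroup.mem_subgroupOf.2 ⟨hI, hT⟩, Subtype.ext (Equiv.ext fun x => Subtype.ext ?_)⟩
    show (G⁻¹ * G') x.1 = ((g.1⁻¹ * g'.1) x).1
    simp only [G, G', ← map_inv, ← map_mul]
    exact Equiv.Perm.ofSubtype_apply_of_mem _ x.2
  let f : setSystemAut (model P22 {pInf, pTwo} 6) ⧸ bothFixed → {e // e ∈ wit23.toFinset} :=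
    fun q => ⟨key q.out, List.mem_toFinset.2 (hkey q.out)⟩
  have hf : Function.Injective f := fun q q' h => by
    rw [← q.out_eq, ← q'.out_eq]
    exact QuotientGroup.eq.2 (hmem _ _ (congrArg Subtype.val h))
  refine (Nat.card_le_card_of_injective f hf).trans ?_
  rw [Nat.card_eq_finsetCard]
  exact (List.toFinset_card_le _).trans (by rfl)

theorem aut22_model :
    Nat.card (setSystemAut (model P22 {pInf, pTwo} 6)) = 887040 ∧
      bothFixed.index = 2 ∧ IsM22 bothFixed := by
  have hne : bothFixed ≠ ⊤ := by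
    intro htop
    obtain ⟨g, hg, h⟩ := exists_list_map_M24 (l := [pInf, pTwo]) (l' := [pTwo, pInf])
      (by simp [pInf_ne_pTwo]) (by simp [pInf_ne_pTwo.symm]) rfl (by simp)
    simp only [List.map_cons, List.map_nil, List.cons.injEq, and_true] at h
    have hD : g • ({pInf, pTwo} : Finset GolayPt) = {pInf, pTwo} := by
      rw [Finset.insert_eq, Finset.smul_finset_union, Finset.smul_finset_singleton,
        Finset.smul_finset_singleton, Equiv.Perm.smul_def, Equiv.Perm.smul_def, h.1, h.2,
        Finset.union_comm]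
    set x : fixPD P22 {pInf, pTwo} := ⟨⟨g, hg⟩, mem_fixPD.2 ⟨smul_univ_erase hD, hD⟩⟩
    have hx : toAut P22 {pInf, pTwo} 6 x ∈ bothFixed := htop ▸ Subgroup.mem_top _
    obtain ⟨y, hy, hyx⟩ := Subgroup.mem_map.1 hx
    obtain rfl := toAut_injective _ _ _ (by decide) hyx
    have : g pInf = pInf := (Subgroup.mem_subgroupOf.1 hy).1
    exact pInf_ne_pTwo (this.symm.trans h.1)
  have h0 : bothFixed.index ≠ 0 := Subgroup.FiniteIndex.index_ne_zero
  have h1 : bothFixed.index ≠ 1 := fun h => hne (Subgroup.index_eq_one.1 h)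
  have hle := index_bothFixed_le
  have h2 : bothFixed.index = 2 := by omega
  have hs : IsSimpleGroup bothFixed := by
    have e := ((Subgroup.subgroupOfEquivOfLe stab_two_le).symm.trans
      (Subgroup.equivMapOfInjective _ (toAut P22 {pInf, pTwo} 6)
        (toAut_injective _ _ _ (by decide))))
    have := isSimpleGroup_stab_two pInf_ne_pTwo
    exact e.symm.isSimpleGroup
  refine ⟨?_, h2, hs, natCard_bothFixed⟩
  rw [← bothFixed.card_mul_index, h2, natCard_bothFixed]

theorem transitive23 :
    MulAction.IsMultiplyPretransitive (setSystemAut (model P23 {pInf} 7))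
      {x : GolayPt // x ∈ P23} 4 := by
  refine isMultiplyPretransitive_model fun x y => ?_
  have hnd : ∀ z : Fin 4 ↪ {x : GolayPt // x ∈ P23},
      (pInf :: List.ofFn fun i => (z i).1).Nodup := fun z => by
    refine List.nodup_cons.2 ⟨?_, List.nodup_ofFn.2 fun i j h => z.injective (Subtype.ext h)⟩
    rw [List.mem_ofFn]
    rintro ⟨i, hi⟩
    exact absurd (hi ▸ (z i).2) (by decide)
  obtain ⟨g, hg, h⟩ := exists_list_map_M24 (hnd x) (hnd y) (by simp) (by simp)
  rw [List.map_cons, List.cons.injEq, List.map_ofFn, List.ofFn_inj] at h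
  exact ⟨g, hg, smul_univ_erase (smul_singleton_iff.2 h.1), smul_singleton_iff.2 h.1,
    fun i => congrFun h.2 i⟩

theorem transitive22 :
    MulAction.IsMultiplyPretransitive (setSystemAut (model P22 {pInf, pTwo} 6))
      {x : GolayPt // x ∈ P22} 3 := by
  refine isMultiplyPretransitive_model fun x y => ?_
  have hnd : ∀ z : Fin 3 ↪ {x : GolayPt // x ∈ P22},
      (pInf :: pTwo :: List.ofFn fun i => (z i).1).Nodup := fun z => by
    refine List.nodup_cons.2 ⟨?_, List.nodup_cons.2 ⟨?_, List.nodup_ofFn.2 fun i j h =>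
      z.injective (Subtype.ext h)⟩⟩
    · rw [List.mem_cons, List.mem_ofFn]
      rintro (h | ⟨i, hi⟩)
      · exact pInf_ne_pTwo h
      · exact absurd (hi ▸ (z i).2) (by decide)
    · rw [List.mem_ofFn]
      rintro ⟨i, hi⟩
      exact absurd (hi ▸ (z i).2) (by decide)
  obtain ⟨g, hg, h⟩ := exists_list_map_M24 (hnd x) (hnd y) (by simp) (by simp)
  rw [List.map_cons, List.cons.injEq, List.map_cons, List.cons.injEq, List.map_ofFn,
    List.ofFn_inj] at h
  have hD : g • ({pInf, pTwo} : Finset GolayPt) = {pInf, pTwo} := by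
    rw [Finset.insert_eq, Finset.smul_finset_union, smul_singleton_iff.2 h.1,
      smul_singleton_iff.2 h.2.1]
  exact ⟨g, hg, smul_univ_erase hD, hD, fun i => congrFun h.2.2 i⟩

variable {α : Type*} [Fintype α] [DecidableEq α] {B : Set (Finset α)}

theorem aut24 (hα : Fintype.card α = 24) (hB : IsSteinerSystem 5 8 B) :
    IsM24 (setSystemAut B) ∧ MulAction.IsMultiplyPretransitive (setSystemAut B) α 5 := by
  have hiso := (labelled24 hα hB).iso le_rfl (labelled24 card_golayPt isSteinerSystem_octads)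
  obtain ⟨-, Φ, -⟩ := exists_autEquiv hiso
  have hs : IsSimpleGroup (setSystemAut octads) :=
    M24_eq_setSystemAut_octads ▸ isSimpleGroup_M24
  exact ⟨⟨Φ.isSimpleGroup, (Nat.card_congr Φ.toEquiv).trans
    (M24_eq_setSystemAut_octads ▸ natCard_M24)⟩,
    isMultiplyPretransitive_transfer hiso
      (M24_eq_setSystemAut_octads ▸ isMultiplyPretransitive_five)⟩

theorem aut23 (hα : Fintype.card α = 23) (hB : IsSteinerSystem 4 7 B) :
    IsM23 (setSystemAut B) ∧ MulAction.IsMultiplyPretransitive (setSystemAut B) α 4 := by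
  have hiso := (labelled23 hα hB).iso (by norm_num) (labelled23 card_P23 model23_isSteiner)
  obtain ⟨-, Φ, -⟩ := exists_autEquiv hiso
  have hs := isM23_model.1
  exact ⟨⟨Φ.isSimpleGroup, (Nat.card_congr Φ.toEquiv).trans isM23_model.2⟩,
    isMultiplyPretransitive_transfer hiso transitive23⟩

theorem aut22 (hα : Fintype.card α = 22) (hB : IsSteinerSystem 3 6 B) :
    Nat.card (setSystemAut B) = 887040 ∧
      MulAction.IsMultiplyPretransitive (setSystemAut B) α 3 ∧
      ∃ H : Subgroup (setSystemAut B), H.index = 2 ∧ IsM22 H := by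
  have hiso := (labelled22 hα hB).iso (by norm_num) (labelled22 card_P22 model22_isSteiner)
  obtain ⟨-, Φ, -⟩ := exists_autEquiv hiso
  obtain ⟨hc, hi, hs, hcH⟩ := aut22_model
  refine ⟨(Nat.card_congr Φ.toEquiv).trans hc, isMultiplyPretransitive_transfer hiso transitive22,
    bothFixed.map Φ.symm.toMonoidHom, ?_, ?_⟩
  · rw [← hi]
    exact Subgroup.index_map_equiv bothFixed Φ.symm
  · have e : bothFixed ≃* bothFixed.map Φ.symm.toMonoidHom :=
      Subgroup.equivMapOfInjective _ _ Φ.symm.injective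
    exact ⟨e.symm.isSimpleGroup, (Nat.card_congr e.toEquiv).symm.trans hcH⟩

end CfsgLib.SteinerUnique
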