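import Cfsg.Agent.Lib.KnownA.SteinerUnique.AutFix
import Cfsg.Agent.Lib.KnownA.SteinerUnique.Models
import Cfsg.Prelude.Def_Sporadic

/-!
Automorphism groups of S(5, 6, 12) and S(4, 5, 11).
-/

set_option autoImplicit false

namespace CfsgLib.SteinerUnique

open Cfsg CfsgLib.Spor
open scoped Pointwise

theorem smul_singleton_eq {g : Equiv.Perm GolayPt} {a : GolayPt} (h : g a = a) :
    g • ({a} : Finset GolayPt) = {a} := by
  rw [Finset.smul_finset_singleton, Equiv.Perm.smul_def, h]

theorem card_P12 {d : Finset GolayPt} (hd : d ∈ dodecads) :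
    Fintype.card {x : GolayPt // x ∈ d} = 12 := by rw [Fintype.card_coe, card_dodecad hd]

theorem model12_isSteiner {d : Finset GolayPt} (hd : d ∈ dodecads) :
    IsSteinerSystem 5 6 (model d ∅ 6) := by
  refine model_isSteiner (Finset.disjoint_empty_right d) (by simp) fun o ho _ h => ?_
  rcases octad_dodecad_card ho hd with h' | h' | h' <;> omega

theorem model11_isSteiner {d : Finset GolayPt} (hd : d ∈ dodecads) {a : GolayPt} (ha : a ∈ d) :
    IsSteinerSystem 4 5 (model (d.erase a) {a} 5) := by
  refine model_isSteiner (by simp) (by simp) fun o ho hao h => ?_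
  rw [Finset.singleton_subset_iff] at hao
  have h1 : (o ∩ d.erase a).card + 1 = (o ∩ d).card := by
    rw [Finset.inter_erase, Finset.card_erase_add_one (Finset.mem_inter.2 ⟨hao, ha⟩)]
  rcases octad_dodecad_card ho hd with h' | h' | h' <;> omega

theorem transitive12 {d : Finset GolayPt} (hd : d ∈ dodecads) :
    MulAction.IsMultiplyPretransitive (setSystemAut (model d ∅ 6)) {x : GolayPt // x ∈ d} 5 := by
  refine isMultiplyPretransitive_model fun x y => ?_
  obtain ⟨g, hg, hgd, h⟩ := exists_five_dodecad hd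
    (x := x.trans (Function.Embedding.subtype _)) (y := y.trans (Function.Embedding.subtype _))
    (fun i => (x i).2) (fun i => (y i).2)
  exact ⟨g, hg, hgd, Finset.smul_finset_empty _, h⟩

theorem transitive11 {d : Finset GolayPt} (hd : d ∈ dodecads) {a : GolayPt} (ha : a ∈ d) :
    MulAction.IsMultiplyPretransitive (setSystemAut (model (d.erase a) {a} 5))
      {x : GolayPt // x ∈ d.erase a} 4 := by
  refine isMultiplyPretransitive_model fun x y => ?_
  have mk : ∀ z : Fin 4 ↪ {x : GolayPt // x ∈ d.erase a},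
      ∃ w : Fin 5 ↪ GolayPt, w 0 = a ∧ ∀ i : Fin 4, w i.succ = (z i).1 ∧ w i.succ ∈ d := by
    intro z
    refine ⟨⟨Fin.cons a fun i => (z i).1, Fin.cons_injective_iff.2 ⟨?_, fun i j h =>
      z.injective (Subtype.ext h)⟩⟩, rfl, fun i => ⟨by simp, ?_⟩⟩
    · rintro ⟨i, hi⟩
      exact (Finset.mem_erase.1 (z i).2).1 hi
    · simpa using (Finset.mem_erase.1 (z i).2).2
  obtain ⟨wx, hx0, hx⟩ := mk x
  obtain ⟨wy, hy0, hy⟩ := mk y
  obtain ⟨g, hg, hgd, h⟩ := exists_five_dodecad hd (x := wx) (y := wy)
    (fun i => by induction i using Fin.cases with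
      | zero => rw [hx0]; exact ha
      | succ i => exact (hx i).2)
    (fun i => by induction i using Fin.cases with
      | zero => rw [hy0]; exact ha
      | succ i => exact (hy i).2)
  have hga : g a = a := by rw [← hx0, h, hy0, hx0]
  refine ⟨g, hg, ?_, smul_singleton_eq hga, fun i => ?_⟩
  · rw [Finset.erase_eq, Finset.smul_finset_sdiff, hgd, smul_singleton_eq hga]
  · rw [← (hx i).1, ← (hy i).1, h]

theorem sharp12 {d : Finset GolayPt} (hd : d ∈ dodecads) :
    ∀ x : Fin 5 ↪ {x : GolayPt // x ∈ d},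
      MulAction.stabilizer (setSystemAut (model d ∅ 6)) x = ⊥ :=
  stabilizer_eq_bot_of_autFix (by norm_num) (by norm_num)
    (labelled12 (card_P12 hd) (model12_isSteiner hd)) autFix12 (transitive12 hd)

theorem card_P11 {d : Finset GolayPt} (hd : d ∈ dodecads) {a : GolayPt} (ha : a ∈ d) :
    Fintype.card {x : GolayPt // x ∈ d.erase a} = 11 := by
  rw [Fintype.card_coe, Finset.card_erase_of_mem ha, card_dodecad hd]

theorem sharp11 {d : Finset GolayPt} (hd : d ∈ dodecads) {a : GolayPt} (ha : a ∈ d) :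
    ∀ x : Fin 4 ↪ {x : GolayPt // x ∈ d.erase a},
      MulAction.stabilizer (setSystemAut (model (d.erase a) {a} 5)) x = ⊥ :=
  stabilizer_eq_bot_of_autFix (by norm_num) (by norm_num)
    (labelled11 (card_P11 hd ha) (model11_isSteiner hd ha)) autFix11 (transitive11 hd ha)

theorem isM12_model {d : Finset GolayPt} (hd : d ∈ dodecads) :
    IsM12 (setSystemAut (model d ∅ 6)) := by
  have hK : fixPD d ∅ = MulAction.stabilizer M24 d := by
    ext g
    rw [mem_fixPD]
    exact ⟨fun h => h.1, fun h => ⟨h, Finset.smul_finset_empty _⟩⟩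
  have hc : Nat.card (fixPD d ∅) = 95040 := by rw [hK]; exact natCard_stab_dodecad hd
  have hinj := toAut_injective d ∅ 6 (by rw [card_dodecad hd]; norm_num)
  obtain ⟨x⟩ : Nonempty (Fin 5 ↪ {x : GolayPt // x ∈ d}) :=
    Function.Embedding.nonempty_of_card_le (by rw [card_P12 hd]; simp)
  have hle := natCard_aut_le_of_sharp (transitive12 hd) (sharp12 hd) x
  rw [Nat.card_eq_fintype_card (α := Fin 5 ↪ _), Fintype.card_embedding_eq, card_P12 hd,
    show (12 : ℕ).descFactorial (Fintype.card (Fin 5)) = 95040 by decide +kernel] at hle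
  have hge := Nat.card_le_card_of_injective _ hinj
  have hbij := (Nat.bijective_iff_injective_and_card (toAut d ∅ 6)).2 ⟨hinj, by omega⟩
  have hs : IsSimpleGroup (fixPD d ∅) := by rw [hK]; exact isSimpleGroup_stab_dodecad hd
  exact ⟨(MulEquiv.ofBijective _ hbij).symm.isSimpleGroup, by omega⟩

theorem isM11_model {d : Finset GolayPt} (hd : d ∈ dodecads) {a : GolayPt} (ha : a ∈ d) :
    IsM11 (setSystemAut (model (d.erase a) {a} 5)) := by
  have hK : fixPD (d.erase a) {a} = MulAction.stabilizer M24 d ⊓ MulAction.stabilizer M24 a := by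
    ext g
    rw [mem_fixPD, Subgroup.mem_inf, MulAction.mem_stabilizer_iff, MulAction.mem_stabilizer_iff]
    show _ ↔ (g : Equiv.Perm GolayPt) • d = d ∧ (g : Equiv.Perm GolayPt) a = a
    constructor
    · rintro ⟨h1, h2⟩
      rw [Finset.smul_finset_singleton, Finset.singleton_inj, Equiv.Perm.smul_def] at h2
      refine ⟨?_, h2⟩
      conv_lhs => rw [← Finset.insert_erase ha]
      rw [Finset.insert_eq, Finset.smul_finset_union, h1, smul_singleton_eq h2,
        ← Finset.insert_eq, Finset.insert_erase ha]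
    · rintro ⟨h1, h2⟩
      exact ⟨by rw [Finset.erase_eq, Finset.smul_finset_sdiff, h1, smul_singleton_eq h2],
        smul_singleton_eq h2⟩
  have hc : Nat.card (fixPD (d.erase a) {a}) = 7920 := by
    rw [hK]; exact natCard_stab_dodecad_point hd ha
  have hinj := toAut_injective (d.erase a) {a} 5
    (by rw [Finset.card_erase_of_mem ha, card_dodecad hd]; norm_num)
  obtain ⟨x⟩ : Nonempty (Fin 4 ↪ {x : GolayPt // x ∈ d.erase a}) :=
    Function.Embedding.nonempty_of_card_le (by rw [card_P11 hd ha]; simp)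
  have hle := natCard_aut_le_of_sharp (transitive11 hd ha) (sharp11 hd ha) x
  rw [Nat.card_eq_fintype_card (α := Fin 4 ↪ _), Fintype.card_embedding_eq, card_P11 hd ha,
    show (11 : ℕ).descFactorial (Fintype.card (Fin 4)) = 7920 by decide +kernel] at hle
  have hge := Nat.card_le_card_of_injective _ hinj
  have hbij := (Nat.bijective_iff_injective_and_card (toAut (d.erase a) {a} 5)).2
    ⟨hinj, by omega⟩
  have hs : IsSimpleGroup (fixPD (d.erase a) {a}) := by
    rw [hK]; exact isSimpleGroup_stab_dodecad_point hd ha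
  exact ⟨(MulEquiv.ofBijective _ hbij).symm.isSimpleGroup, by omega⟩

variable {α : Type*} [Fintype α] [DecidableEq α] {B : Set (Finset α)}

theorem aut12 (hα : Fintype.card α = 12) (hB : IsSteinerSystem 5 6 B) :
    IsM12 (setSystemAut B) ∧ MulAction.IsMultiplyPretransitive (setSystemAut B) α 5 ∧
      ∀ x : Fin 5 ↪ α, MulAction.stabilizer (setSystemAut B) x = ⊥ := by
  have hd := dodec0_mem
  have hiso := (labelled12 hα hB).iso (by norm_num)
    (labelled12 (card_P12 hd) (model12_isSteiner hd))
  obtain ⟨-, Φ, -⟩ := exists_autEquiv hiso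
  have h := isM12_model hd
  have hs := h.1
  exact ⟨⟨Φ.isSimpleGroup, (Nat.card_congr Φ.toEquiv).trans h.2⟩,
    isMultiplyPretransitive_transfer hiso (transitive12 hd),
    stabilizer_eq_bot_transfer hiso (sharp12 hd)⟩

theorem aut11 (hα : Fintype.card α = 11) (hB : IsSteinerSystem 4 5 B) :
    IsM11 (setSystemAut B) ∧ MulAction.IsMultiplyPretransitive (setSystemAut B) α 4 ∧
      ∀ x : Fin 4 ↪ α, MulAction.stabilizer (setSystemAut B) x = ⊥ := by
  have hd := dodec0_mem
  obtain ⟨a, ha⟩ : (toSet dodec0).Nonempty :=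
    Finset.card_pos.1 (by rw [card_dodecad hd]; norm_num)
  have hiso := (labelled11 hα hB).iso (by norm_num)
    (labelled11 (card_P11 hd ha) (model11_isSteiner hd ha))
  obtain ⟨-, Φ, -⟩ := exists_autEquiv hiso
  have h := isM11_model hd ha
  have hs := h.1
  exact ⟨⟨Φ.isSimpleGroup, (Nat.card_congr Φ.toEquiv).trans h.2⟩,
    isMultiplyPretransitive_transfer hiso (transitive11 hd ha),
    stabilizer_eq_bot_transfer hiso (sharp11 hd ha)⟩

end CfsgLib.SteinerUnique
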