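import Cfsg.Agent.Lib.KnownA.SteinerUnique.Data

/-!
Kernel checks of the searches (21 systems).
-/

set_option autoImplicit false

namespace CfsgLib.SteinerUnique

set_option maxRecDepth 100000 in
theorem cert21 : certOK 21 std21
    (complete sameSig [1] 1 (List.range 21) 3 (combs (List.range 21) 2 0) [])
    wit21 = true := by
  decide +kernel

end CfsgLib.SteinerUnique
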