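import Cfsg.Agent.Lib.KnownA.SteinerUnique.Data

/-!
Kernel checks of the searches (22 systems).
-/

set_option autoImplicit false

namespace CfsgLib.SteinerUnique

set_option maxRecDepth 100000 in
theorem cert22 : certOK 22 std22
    (complete noDrop [0, 2] 2 (List.range 22) 3 (combs (List.range 22) 3 0) (std21.map fun m => m ||| (1 <<< 21)))
    wit22 = true := by
  decide +kernel

end CfsgLib.SteinerUnique
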