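import Cfsg.Agent.Lib.KnownA.SteinerUnique.Data

/-!
Kernel checks of the searches (Small systems).
-/

set_option autoImplicit false

namespace CfsgLib.SteinerUnique

set_option maxRecDepth 100000 in
theorem cert9 : certOK 9 std9
    (complete sameSig [0, 1] 1 (List.range 9) 1 (combs (List.range 9) 2 0) [])
    wit9 = true := by
  decide +kernel

set_option maxRecDepth 100000 in
theorem cert10 : certOK 10 std10
    (complete noDrop [0, 1, 2] 2 (List.range 10) 1 (combs (List.range 10) 3 0) (std9.map fun m => m ||| (1 <<< 9)))
    wit10 = true := by
  decide +kernel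

set_option maxRecDepth 100000 in
theorem cert11 : certOK 11 std11
    (complete noDrop [0, 1, 2, 3] 3 (List.range 11) 1 (combs (List.range 11) 4 0) (std10.map fun m => m ||| (1 <<< 10)))
    wit11 = true := by
  decide +kernel

end CfsgLib.SteinerUnique
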