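import Cfsg.Agent.Lib.KnownA.SteinerUnique.Systems
import Cfsg.Agent.Lib.Spor.M24Trans

/-!
The binary doubly even self-dual code of length 24 without words of weight 4: its words of weight
8 form S(5, 8, 24), so it is equivalent to the Golay code.
-/

set_option autoImplicit false

namespace CfsgLib.SteinerUnique

open Cfsg CfsgLib.Spor

section Code

variable {C : Submodule (ZMod 2) (Fin 24 → ZMod 2)}

/-- the hypotheses on the code -/
structure GoodCode (C : Submodule (ZMod 2) (Fin 24 → ZMod 2)) : Prop where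
  dim : Module.finrank (ZMod 2) C = 12
  orth : ∀ v ∈ C, ∀ w ∈ C, ∑ i, v i * w i = 0
  four : ∀ w ∈ C, 4 ∣ hammingNorm w
  no_four : ∀ w ∈ C, hammingNorm w ≠ 4

theorem GoodCode.eq_zero (h : GoodCode C) {w : Fin 24 → ZMod 2} (hw : w ∈ C)
    (hlt : hammingNorm w < 8) : w = 0 := by
  have h1 := h.four w hw
  have h2 := h.no_four w hw
  exact hammingNorm_eq_zero.1 (by omega)

theorem GoodCode.perp (h : GoodCode C) {v : Fin 24 → ZMod 2}
    (hv : ∀ w ∈ C, ∑ i, v i * w i = 0) : v ∈ C := by
  let φ := dotProductEquiv (ZMod 2) (Fin 24)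
  have hle : C.map φ.toLinearMap ≤ C.dualAnnihilator := by
    rintro _ ⟨u, hu, rfl⟩
    rw [Submodule.mem_dualAnnihilator]
    intro w hw
    exact h.orth u hu w hw
  have heq : C.map φ.toLinearMap = C.dualAnnihilator := by
    refine Submodule.eq_of_le_of_finrank_eq hle ?_
    have h1 : Module.finrank (ZMod 2) (C.map φ.toLinearMap) = 12 :=
      (LinearEquiv.finrank_map_eq φ C).trans h.dim
    have h2 := Subspace.finrank_add_finrank_dualAnnihilator_eq C
    rw [h.dim, Module.finrank_fin_fun] at h2
    omega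
  have hm : φ v ∈ C.dualAnnihilator := by
    rw [Submodule.mem_dualAnnihilator]; exact hv
  rw [← heq] at hm
  obtain ⟨u, hu, huv⟩ := hm
  rwa [← φ.injective huv]

theorem GoodCode.one_mem (h : GoodCode C) : (1 : Fin 24 → ZMod 2) ∈ C := by
  refine h.perp fun w hw => ?_
  have h4 := h.four w hw
  have hsum : ∑ i, (1 : Fin 24 → ZMod 2) i * w i = (hammingNorm w : ZMod 2) := by
    rw [hammingNorm, Finset.natCast_card_filter]
    refine Finset.sum_congr rfl fun i _ => ?_
    rw [Pi.one_apply, one_mul]
    exact zmod2_eq_ite (w i)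
  rw [hsum, ZMod.natCast_eq_zero_iff_even, Nat.even_iff]
  omega

/-- the words of `C` that are one on `S` -/
def onesOn (C : Submodule (ZMod 2) (Fin 24 → ZMod 2)) (S : Finset (Fin 24)) :
    Set (Fin 24 → ZMod 2) := {w | w ∈ C ∧ ∀ i ∈ S, w i = 1}

theorem GoodCode.ncard_onesOn (h : GoodCode C) (S : Finset (Fin 24)) (hS : S.card ≤ 7) :
    (onesOn C S).ncard * 2 ^ S.card = 4096 := by
  classical
  let π : C →ₗ[ZMod 2] (S → ZMod 2) :=
    (LinearMap.funLeft (ZMod 2) (ZMod 2) (Subtype.val : S → Fin 24)).comp C.subtype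
  have hsurj : LinearMap.range π = ⊤ := by
    by_contra hne
    obtain ⟨f, hf0, hf⟩ :=
      Submodule.exists_dual_map_eq_bot_of_lt_top (lt_top_iff_ne_top.2 hne) inferInstance
    let v : Fin 24 → ZMod 2 := fun i => if hi : i ∈ S then f (Pi.single ⟨i, hi⟩ 1) else 0
    have hfe : ∀ x : S → ZMod 2, f x = ∑ i : S, f (Pi.single i 1) * x i := by
      intro x
      conv_lhs => rw [pi_eq_sum_univ' x, map_sum]
      refine Finset.sum_congr rfl fun i _ => ?_
      rw [map_smul, smul_eq_mul, mul_comm]
    have hv : v ∈ C := by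
      refine h.perp fun w hw => ?_
      have h1 : f (π ⟨w, hw⟩) = 0 := by
        have h2 : f (π ⟨w, hw⟩) ∈ (LinearMap.range π).map f :=
          Submodule.mem_map_of_mem ⟨_, rfl⟩
        rwa [hf, Submodule.mem_bot] at h2
      rw [← h1, hfe, ← Finset.sum_subset (Finset.subset_univ S) fun i _ hi => by simp [v, hi],
        ← Finset.sum_coe_sort S]
      exact Finset.sum_congr rfl fun i _ => by simp [v, i.2, π, LinearMap.funLeft]
    have hv0 : v = 0 := by
      refine h.eq_zero hv (lt_of_le_of_lt (Finset.card_le_card (t := S) fun i hi => ?_) (by omega))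
      by_contra hc
      simp [v, hc] at hi
    apply hf0
    refine LinearMap.ext fun x => ?_
    rw [hfe, LinearMap.zero_apply]
    refine Finset.sum_eq_zero fun i _ => ?_
    have := congrFun hv0 i.1
    simp only [v, dif_pos i.2, Pi.zero_apply] at this
    rw [this, zero_mul]
  have hdom : Nat.card C = 4096 := by
    rw [Module.natCard_eq_pow_finrank (K := ZMod 2), h.dim, Nat.card_zmod]; norm_num
  have hker : Nat.card (LinearMap.ker π) * 2 ^ S.card = 4096 := by
    have h1 := AddSubgroup.card_mul_index π.toAddMonoidHom.ker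
    rw [AddSubgroup.index_ker] at h1
    have h2 : Nat.card π.toAddMonoidHom.range = 2 ^ S.card := by
      have hs : Function.Surjective π := LinearMap.range_eq_top.1 hsurj
      rw [AddMonoidHom.range_eq_top.2 hs, Nat.card_congr AddSubgroup.topEquiv.toEquiv,
        Nat.card_fun, Nat.card_zmod, Nat.card_eq_finsetCard]
    rw [h2, hdom] at h1
    exact h1
  obtain ⟨w₀, hw₀⟩ := LinearMap.range_eq_top.1 hsurj (fun _ => 1)
  have hbij : Nat.card (onesOn C S) = Nat.card (LinearMap.ker π) := by
    refine Nat.card_congr ⟨fun w => ⟨⟨w.1, w.2.1⟩ - w₀, ?_⟩,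
      fun k => ⟨((k.1 + w₀ : C) : Fin 24 → ZMod 2), (k.1 + w₀ : C).2, fun i hi => ?_⟩,
      fun w => ?_, fun k => ?_⟩
    · rw [LinearMap.mem_ker, map_sub, sub_eq_zero, hw₀]
      exact funext fun i => w.2.2 i.1 i.2
    · have h1 : π (k.1 + w₀) = fun _ => 1 := by rw [map_add, k.2, zero_add, hw₀]
      exact congrFun h1 ⟨i, hi⟩
    · refine Subtype.ext ?_
      show (((⟨w.1, w.2.1⟩ : C) - w₀ + w₀ : C) : Fin 24 → ZMod 2) = w.1
      rw [sub_add_cancel]
    · exact Subtype.ext (add_sub_cancel_right k.1 w₀)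
  rw [← Nat.card_coe_set_eq, hbij]
  exact hker

theorem GoodCode.norm_cases (h : GoodCode C) {w : Fin 24 → ZMod 2} (hw : w ∈ C) :
    hammingNorm w = 0 ∨ hammingNorm w = 8 ∨ hammingNorm w = 12 ∨ hammingNorm w = 16 ∨
      hammingNorm w = 24 := by
  have h1 := h.four w hw
  have h2 := h.no_four w hw
  have h3 : hammingNorm w ≤ 24 := le_trans hammingNorm_le_card_fintype (by simp)
  have h20 : hammingNorm w ≠ 20 := by
    intro h20
    have hc := h.no_four _ (Submodule.add_mem _ hw h.one_mem)
    apply hc
    have : hammingNorm (w + 1) + hammingNorm w = 24 := by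
      rw [hammingNorm, hammingNorm, ← Finset.card_union_of_disjoint]
      · refine Eq.trans ?_ (show (Finset.univ : Finset (Fin 24)).card = 24 by simp)
        congr 1
        ext i
        simp only [Finset.mem_union, Finset.mem_filter, Finset.mem_univ, true_and, iff_true,
          Pi.add_apply, Pi.one_apply]
        revert i
        intro i
        generalize w i = a
        revert a
        decide
      · rw [Finset.disjoint_filter]
        intro i _
        simp only [Pi.add_apply, Pi.one_apply]
        generalize w i = a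
        revert a
        decide
    omega
  omega

/-- supports of the words of weight 8 -/
def blocksOf (C : Submodule (ZMod 2) (Fin 24 → ZMod 2)) : Set (Finset (Fin 24)) :=
  {b | b.card = 8 ∧ (fun i => if i ∈ b then 1 else 0) ∈ C}

theorem GoodCode.exists_block (h : GoodCode C) {T : Finset (Fin 24)} (hT : T.card = 5) :
    ∃ b ∈ blocksOf C, T ⊆ b := by
  classical
  by_contra hno
  set A : Finset (Fin 24 → ZMod 2) := (onesOn C T).toFinite.toFinset with hA
  have hmemA : ∀ w, w ∈ A ↔ w ∈ C ∧ ∀ i ∈ T, w i = 1 := fun w => Set.Finite.mem_toFinset _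
  let g : (Fin 24 → ZMod 2) → ℕ := fun w => ∑ i ∈ Tᶜ, if w i = 1 then 1 else 0
  have hcount : ∀ U : Finset (Fin 24), U.card ≤ 7 → T ⊆ U →
      (A.filter fun w => ∀ i ∈ U, w i = 1).card * 2 ^ U.card = 4096 := by
    intro U hU hTU
    rw [← h.ncard_onesOn U hU, ← Set.ncard_coe_finset]
    congr 2
    ext w
    simp only [Finset.coe_filter, hmemA, Set.mem_setOf_eq, onesOn]
    exact ⟨fun hw => ⟨hw.1.1, hw.2⟩, fun hw => ⟨⟨hw.1, fun i hi => hw.2 i (hTU hi)⟩, hw.2⟩⟩
  have hA0 : A.card = 128 := by
    have h0 := hcount T (by omega) (Finset.Subset.refl T)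
    rw [Finset.filter_true_of_mem fun w hw => ((hmemA w).1 hw).2, hT] at h0
    omega
  have hone : ∀ i ∈ Tᶜ, (A.filter fun w => w i = 1).card = 64 := by
    intro i hi
    rw [Finset.mem_compl] at hi
    have h1 := hcount (insert i T) (by rw [Finset.card_insert_of_notMem hi]; omega)
      (Finset.subset_insert _ _)
    rw [Finset.card_insert_of_notMem hi, hT] at h1
    have : (A.filter fun w => ∀ j ∈ insert i T, w j = 1) = A.filter fun w => w i = 1 :=
      Finset.filter_congr fun w hw => by
        simpa using fun _ => ((hmemA w).1 hw).2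
    rw [this] at h1
    omega
  have htwo : ∀ i ∈ Tᶜ, ∀ j ∈ Tᶜ, i ≠ j →
      (A.filter fun w => w i = 1 ∧ w j = 1).card = 32 := by
    intro i hi j hj hij
    rw [Finset.mem_compl] at hi hj
    have hj' : j ∉ T := hj
    have hc : (insert i (insert j T)).card = 7 := by
      rw [Finset.card_insert_of_notMem (by simp [hij, hi]), Finset.card_insert_of_notMem hj', hT]
    have h1 := hcount (insert i (insert j T)) (by omega)
      ((Finset.subset_insert _ _).trans (Finset.subset_insert _ _))
    rw [hc] at h1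
    have : (A.filter fun w => ∀ l ∈ insert i (insert j T), w l = 1) =
        A.filter fun w => w i = 1 ∧ w j = 1 :=
      Finset.filter_congr fun w hw => by
        simp only [Finset.forall_mem_insert]
        exact ⟨fun e => ⟨e.1, e.2.1⟩, fun e => ⟨e.1, e.2, ((hmemA w).1 hw).2⟩⟩
    rw [this] at h1
    omega
  have hTc : (Tᶜ : Finset (Fin 24)).card = 19 := by rw [Finset.card_compl, hT]; simp
  have hS1 : ∑ w ∈ A, g w = 1216 := by
    have h64 : ∀ i ∈ Tᶜ, (∑ w ∈ A, if w i = 1 then 1 else 0) = 64 := fun i hi => by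
      rw [← Finset.card_filter]; exact hone i hi
    rw [Finset.sum_comm, Finset.sum_congr rfl h64, Finset.sum_const, hTc]
    rfl
  have hS2 : ∑ w ∈ A, g w * g w = 12160 := by
    have hexp : ∀ w, g w * g w =
        ∑ i ∈ Tᶜ, ∑ j ∈ Tᶜ, if w i = 1 ∧ w j = 1 then 1 else 0 := fun w => by
      rw [Finset.sum_mul_sum]
      refine Finset.sum_congr rfl fun i _ => Finset.sum_congr rfl fun j _ => ?_
      by_cases h1 : w i = 1 <;> by_cases h2 : w j = 1 <;> simp [h1, h2]
    simp only [hexp]
    rw [Finset.sum_comm, Finset.sum_congr rfl fun i hi => ?_, Finset.sum_const, hTc,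
      show 19 • (640 : ℕ) = 12160 by norm_num]
    rw [Finset.sum_comm, ← Finset.add_sum_erase _ _ hi]
    have h64 : ∑ w ∈ A, (if w i = 1 ∧ w i = 1 then 1 else 0) = 64 := by
      simp only [and_self]; rw [← Finset.card_filter]; exact hone i hi
    have hrest : ∀ j ∈ (Tᶜ).erase i,
        ∑ w ∈ A, (if w i = 1 ∧ w j = 1 then 1 else 0) = 32 := fun j hj => by
      rw [← Finset.card_filter]
      exact htwo i hi j (Finset.mem_of_mem_erase hj) (Finset.ne_of_mem_erase hj).symm
    rw [h64, Finset.sum_congr rfl hrest, Finset.sum_const, Finset.card_erase_of_mem hi, hTc]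
    rfl
  have hsupp : ∀ w ∈ A, hammingNorm w = g w + 5 := by
    intro w hw
    have h1 : (Finset.univ.filter fun i => w i ≠ 0) =
        T ∪ Tᶜ.filter fun i => w i = 1 := by
      ext i
      have ha : ∀ a : ZMod 2, a ≠ 0 ↔ a = 1 := by decide
      simp only [Finset.mem_filter, Finset.mem_univ, true_and, Finset.mem_union,
        Finset.mem_compl, ha]
      by_cases hi : i ∈ T
      · simp [hi, ((hmemA w).1 hw).2 i hi]
      · simp [hi]
    rw [hammingNorm, h1, Finset.card_union_of_disjoint, hT, Finset.card_filter, add_comm]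
    exact Finset.disjoint_left.2 fun i hi hc => Finset.mem_compl.1 (Finset.mem_filter.1 hc).1 hi
  have hvals : ∀ w ∈ A, g w * g w + 77 = 18 * g w + if g w = 19 then 96 else 0 := by
    intro w hw
    have hn := hsupp w hw
    rcases h.norm_cases ((hmemA w).1 hw).1 with h' | h' | h' | h' | h'
    · omega
    · exfalso
      refine hno ⟨Finset.univ.filter fun i => w i ≠ 0, ⟨h', ?_⟩, fun i hi => ?_⟩
      · convert ((hmemA w).1 hw).1 using 1
        funext i
        simp only [Finset.mem_filter, Finset.mem_univ, true_and]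
        exact (zmod2_eq_ite (w i)).symm
      · simp [((hmemA w).1 hw).2 i hi]
    · rw [show g w = 7 by omega]; rfl
    · rw [show g w = 11 by omega]; rfl
    · rw [show g w = 19 by omega]; rfl
  have hsum := Finset.sum_congr rfl hvals
  rw [Finset.sum_add_distrib, Finset.sum_add_distrib, Finset.sum_const, hA0, hS2,
    ← Finset.mul_sum, hS1, ← Finset.sum_filter, Finset.sum_const, smul_eq_mul, smul_eq_mul] at hsum
  omega

theorem GoodCode.isSteiner (h : GoodCode C) : IsSteinerSystem 5 8 (blocksOf C) := by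
  classical
  refine ⟨fun b hb => hb.1, fun T hT => ?_⟩
  obtain ⟨b, hb, hTb⟩ := h.exists_block hT
  refine ⟨b, ⟨hb, hTb⟩, fun c hc => ?_⟩
  set u : Fin 24 → ZMod 2 := fun i => if i ∈ b then 1 else 0
  set v : Fin 24 → ZMod 2 := fun i => if i ∈ c then 1 else 0
  have hsupp : (Finset.univ.filter fun i => (u + v) i ≠ 0) = symmDiff b c := by
    ext i
    simp only [Finset.mem_filter, Finset.mem_univ, true_and, Pi.add_apply, u, v,
      Finset.mem_symmDiff]
    by_cases h1 : i ∈ b <;> by_cases h2 : i ∈ c <;> simp [h1, h2]; decide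
  have hz : u + v = 0 := by
    refine h.eq_zero (Submodule.add_mem _ hb.2 hc.1.2) ?_
    rw [hammingNorm, hsupp]
    have h5 : 5 ≤ (b ∩ c).card := hT ▸ Finset.card_le_card (Finset.subset_inter hTb hc.2)
    have := card_symmDiff_two b c
    rw [hb.1, hc.1.1] at this
    omega
  have he : symmDiff b c = ∅ := by rw [← hsupp, hz]; simp
  exact (symmDiff_eq_bot.1 he).symm

theorem GoodCode.equiv_golay (h : GoodCode C) :
    ∃ e : Fin 24 ≃ GolayPt, ∀ w : GolayPt → ZMod 2,
      w ∈ golayCode ↔ (fun i => w (e i)) ∈ C := by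
  obtain ⟨e, he⟩ := (labelled24 (Fintype.card_fin 24) h.isSteiner).iso le_rfl
    (labelled24 card_golayPt isSteinerSystem_octads)
  let φ : (GolayPt → ZMod 2) ≃ₗ[ZMod 2] (Fin 24 → ZMod 2) :=
    LinearEquiv.funCongrLeft (ZMod 2) (ZMod 2) e
  have hφ : ∀ w, φ w = fun i => w (e i) := fun w => rfl
  have hword : ∀ o ∈ octads, φ (word (mask o)) ∈ C := by
    intro o ho
    rw [← he] at ho
    obtain ⟨b, hb, rfl⟩ := ho
    convert hb.2 using 1
    rw [hφ]
    funext i
    simp [word, testBit_mask, e.injective.eq_iff]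
  have hle : golayCode ≤ C.comap φ.toLinearMap := by
    intro w hw
    rw [mem_golayCode_iff] at hw
    rw [← word_mask_support₂ w]
    refine spanList_induction (P := fun m => word m ∈ C.comap φ.toLinearMap) ?_ ?_ ?_ _ hw
    · rw [word_zero]; exact zero_mem _
    · intro b hb
      rw [List.mem_reverse, ← basisOctads_spec.1] at hb
      obtain ⟨l, hl, rfl⟩ := List.mem_map.1 hb
      have hall := List.all_eq_true.1 basisOctads_spec.2 l hl
      clear hl hb
      induction l with
      | nil => simp [word_zero]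
      | cons o r ih =>
        simp only [List.all_cons, Bool.and_eq_true, Nat.beq_eq, Nat.blt_eq] at hall
        simp only [List.foldr_cons]
        rw [word_xor]
        refine add_mem ?_ (ih hall.2)
        have := hword _ (toSet_mem_octads hall.1.1.1 hall.1.1.2 hall.1.2)
        rwa [mask_toSet (by simpa using hall.1.2)] at this
    · intro a b ha hb; rw [word_xor]; exact add_mem ha hb
  have heq : golayCode = C.comap φ.toLinearMap := by
    refine Submodule.eq_of_le_of_finrank_eq hle ?_
    rw [finrank_golayCode, Submodule.comap_equiv_eq_map_symm,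
      LinearEquiv.finrank_map_eq, h.dim]
  exact ⟨e, fun w => by rw [heq]; rfl⟩

end Code

end CfsgLib.SteinerUnique
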