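import Cfsg.Agent.Lib.Spor.Perm24
import Cfsg.Agent.Lib.Spor.Steiner

/-!
Blocks of a set system on `n ≤ 24` labelled points as bit masks, and relabelling.
-/

set_option autoImplicit false

namespace CfsgLib.SteinerUnique

open Cfsg CfsgLib.Spor

variable {α : Type*} [DecidableEq α] {n : ℕ}

/-- the mask of a set of labelled points -/
def enc (E : α ≃ Fin n) (b : Finset α) : ℕ := mask (b.image fun a => pt (E a).val)

/-- the masks of the blocks -/
def encSet (E : α ≃ Fin n) (B : Set (Finset α)) : Set ℕ := enc E '' B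

theorem label_injective (hn : n ≤ 24) (E : α ≃ Fin n) :
    Function.Injective fun a => pt (E a).val := by
  intro a a' h
  have h1 := congrArg idx h
  simp only at h1
  rw [idx_pt (lt_of_lt_of_le (E a).2 hn), idx_pt (lt_of_lt_of_le (E a').2 hn)] at h1
  exact E.injective (Fin.ext h1)

theorem testBit_enc (hn : n ≤ 24) (E : α ≃ Fin n) (b : Finset α) (j : ℕ) :
    (enc E b).testBit j = true ↔ ∃ a ∈ b, (E a).val = j := by
  by_cases hj : j < 24
  · have h := testBit_mask (b.image fun a => pt (E a).val) (pt j)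
    rw [idx_pt hj] at h
    rw [enc, h, decide_eq_true_eq, Finset.mem_image]
    refine exists_congr fun a => and_congr_right fun _ => ⟨fun e => ?_, fun e => by rw [e]⟩
    have h1 := congrArg idx e
    rwa [idx_pt (lt_of_lt_of_le (E a).2 hn), idx_pt hj] at h1
  · constructor
    · intro h
      rw [enc, Nat.testBit_eq_false_of_lt (lt_of_lt_of_le (mask_lt _)
        (Nat.pow_le_pow_right (by norm_num) (not_lt.1 hj)))] at h
      exact absurd h (by decide)
    · rintro ⟨a, -, rfl⟩
      exact absurd (lt_of_lt_of_le (E a).2 hn) hj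

theorem enc_lt (E : α ≃ Fin n) (b : Finset α) : enc E b < 16777216 := by
  have := mask_lt (b.image fun a => pt (E a).val)
  simpa [enc] using this

theorem lt_of_testBit_enc (hn : n ≤ 24) (E : α ≃ Fin n) (b : Finset α) {j : ℕ}
    (h : (enc E b).testBit j = true) : j < n := by
  obtain ⟨a, -, rfl⟩ := (testBit_enc hn E b j).1 h
  exact (E a).2

theorem pop_enc (hn : n ≤ 24) (E : α ≃ Fin n) (b : Finset α) : pop (enc E b) = b.card := by
  rw [enc, pop_mask, Finset.card_image_of_injective _ (label_injective hn E)]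

theorem enc_and (hn : n ≤ 24) (E : α ≃ Fin n) (b c : Finset α) :
    enc E b &&& enc E c = enc E (b ∩ c) := by
  rw [enc, enc, enc, ← mask_inter, Finset.image_inter _ _ (label_injective hn E)]

theorem enc_injective (hn : n ≤ 24) (E : α ≃ Fin n) : Function.Injective (enc E) :=
  fun _ _ h => Finset.image_injective (label_injective hn E) (mask_injective h)

theorem enc_and_eq_iff (hn : n ≤ 24) (E : α ≃ Fin n) (b c : Finset α) :
    enc E b &&& enc E c = enc E c ↔ c ⊆ b := by
  rw [enc_and hn, (enc_injective hn E).eq_iff, Finset.inter_eq_right]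

theorem enc_symmDiff (hn : n ≤ 24) (E : α ≃ Fin n) (b c : Finset α) :
    enc E (symmDiff b c) = enc E b ^^^ enc E c := by
  apply Nat.eq_of_testBit_eq
  intro j
  rw [Nat.testBit_xor]
  rw [Bool.eq_iff_iff, testBit_enc hn]
  by_cases hj : j < n
  · obtain ⟨a, rfl⟩ : ∃ a, (E a).val = j := ⟨E.symm ⟨j, hj⟩, by simp⟩
    have key : ∀ d : Finset α, (enc E d).testBit (E a).val = decide (a ∈ d) := by
      intro d
      rw [Bool.eq_iff_iff, testBit_enc hn, decide_eq_true_eq]
      exact ⟨fun ⟨a', h, e⟩ => E.injective (Fin.ext e) ▸ h, fun h => ⟨a, h, rfl⟩⟩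
    rw [← testBit_enc hn, key, key, key, decide_eq_true_eq, Finset.mem_symmDiff]
    by_cases h1 : a ∈ b <;> by_cases h2 : a ∈ c <;> simp [h1, h2]
  · have hf : ∀ d : Finset α, (enc E d).testBit j = false := fun d => by
      rw [← Bool.not_eq_true]; exact fun h => hj (lt_of_testBit_enc hn E d h)
    rw [hf, hf]
    simp only [bne_self_eq_false, Bool.false_eq_true, iff_false, not_exists, not_and]
    intro a _ h
    exact hj (h ▸ (E a).2)

theorem exists_enc_eq (hn : n ≤ 24) [Fintype α] (E : α ≃ Fin n) {u : ℕ}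
    (hu : ∀ j, u.testBit j = true → j < n) : ∃ b : Finset α, enc E b = u := by
  refine ⟨Finset.univ.filter fun a => u.testBit (E a).val = true, ?_⟩
  apply Nat.eq_of_testBit_eq
  intro j
  rw [Bool.eq_iff_iff, testBit_enc hn]
  simp only [Finset.mem_filter, Finset.mem_univ, true_and]
  constructor
  · rintro ⟨a, h, rfl⟩; exact h
  · intro h
    exact ⟨E.symm ⟨j, hu j h⟩, by simpa using h, by simp⟩

/-- relabelling by a permutation of the labels -/
theorem testBit_enc_trans (hn : n ≤ 24) (E : α ≃ Fin n) (τ : Equiv.Perm (Fin n)) (b : Finset α)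
    (j : ℕ) : (enc (E.trans τ) b).testBit j = true ↔
      ∃ i : Fin n, (enc E b).testBit i.val = true ∧ (τ i).val = j := by
  rw [testBit_enc hn]
  constructor
  · rintro ⟨a, ha, h⟩
    exact ⟨E a, (testBit_enc hn E b _).2 ⟨a, ha, rfl⟩, h⟩
  · rintro ⟨i, hi, h⟩
    obtain ⟨a, ha, e⟩ := (testBit_enc hn E b _).1 hi
    refine ⟨a, ha, ?_⟩
    rw [Equiv.trans_apply, Fin.ext e]
    exact h

theorem enc_trans_swap_eq (hn : n ≤ 24) (E : α ≃ Fin n) (p q : Fin n) (b : Finset α)
    (h : (enc E b).testBit p.val = (enc E b).testBit q.val) :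
    enc (E.trans (Equiv.swap p q)) b = enc E b := by
  apply Nat.eq_of_testBit_eq
  intro j
  rw [Bool.eq_iff_iff, testBit_enc_trans hn]
  constructor
  · rintro ⟨i, hi, rfl⟩
    rcases eq_or_ne i p with rfl | hip
    · rw [Equiv.swap_apply_left, ← h]; exact hi
    rcases eq_or_ne i q with rfl | hiq
    · rw [Equiv.swap_apply_right, h]; exact hi
    · rw [Equiv.swap_apply_of_ne_of_ne hip hiq]; exact hi
  · intro hj
    have hjn := lt_of_testBit_enc hn E b hj
    refine ⟨Equiv.swap p q ⟨j, hjn⟩, ?_, by rw [Equiv.swap_apply_self]⟩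
    rcases eq_or_ne (⟨j, hjn⟩ : Fin n) p with e | hip
    · rw [e, Equiv.swap_apply_left, ← h, ← e]; exact hj
    rcases eq_or_ne (⟨j, hjn⟩ : Fin n) q with e | hiq
    · rw [e, Equiv.swap_apply_right, h, ← e]; exact hj
    · rw [Equiv.swap_apply_of_ne_of_ne hip hiq]; exact hj

/-- the first `n` entries of a packed permutation permute `0, …, n-1` -/
def isPermN (n π : ℕ) : Bool :=
  ((List.range n).all fun i => Nat.blt (getP π i) n) &&
    (List.range n).all fun i => (List.range n).all fun j =>
      Nat.beq i j || !Nat.beq (getP π i) (getP π j)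

theorem exists_trans_actP (hn : n ≤ 24) (E : α ≃ Fin n) {π : ℕ} (h : isPermN n π = true) :
    ∃ E' : α ≃ Fin n, ∀ b, enc E' b = actP π (enc E b) := by
  simp only [isPermN, Bool.and_eq_true, List.all_eq_true, List.mem_range, Nat.blt_eq,
    Bool.or_eq_true, Nat.beq_eq, Bool.not_eq_true'] at h
  let f : Fin n → Fin n := fun i => ⟨getP π i.val, h.1 i.val i.2⟩
  have hf : Function.Injective f := by
    intro i j e
    have e' : getP π i.val = getP π j.val := congrArg Fin.val e
    rcases h.2 i.val i.2 j.val j.2 with h' | h'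
    · exact Fin.ext h'
    · rw [← Bool.not_eq_true, Nat.beq_eq] at h'
      exact absurd e' h'
  refine ⟨E.trans (Equiv.ofBijective f (Finite.injective_iff_bijective.1 hf)), fun b => ?_⟩
  apply Nat.eq_of_testBit_eq
  intro j
  rw [Bool.eq_iff_iff, testBit_enc_trans hn, actP, testBit_actAux]
  constructor
  · rintro ⟨i, hi, rfl⟩
    exact ⟨i.val, lt_of_lt_of_le i.2 hn, hi, rfl⟩
  · rintro ⟨i, -, hi, rfl⟩
    exact ⟨⟨i, lt_of_testBit_enc hn E b hi⟩, hi, rfl⟩

/-- two systems with the same masks under labellings are isomorphic -/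
theorem iso_of_encSet_eq (hn : n ≤ 24) {β : Type*} [DecidableEq β] {E : α ≃ Fin n}
    {E' : β ≃ Fin n} {B : Set (Finset α)} {B' : Set (Finset β)}
    (h : encSet E B = encSet E' B') : SetSystemIso B B' := by
  refine ⟨E.trans E'.symm, ?_⟩
  have key : ∀ b : Finset α, enc E' (b.image (E.trans E'.symm)) = enc E b := by
    intro b
    rw [enc, enc, Finset.image_image]
    congr 1
    refine Finset.image_congr fun a _ => ?_
    simp
  refine Set.image_injective.2 (enc_injective hn E') ?_
  show enc E' '' _ = encSet E' B'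
  rw [← h, encSet, Set.image_image]
  exact Set.image_congr fun b _ => key b

end CfsgLib.SteinerUnique
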