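import Cfsg.Agent.Lib.KnownA.SteinerUnique.Encode

/-!
A search for all completions of a partial Steiner system on at most 24 labelled points, with
optional breaking of the symmetry between labels that no chosen block distinguishes.
-/

set_option autoImplicit false

namespace CfsgLib.SteinerUnique

open Cfsg CfsgLib.Spor

/-- `m` meets every block in at most `mx` points -/
def okPre (mx : ℕ) (ch : List ℕ) (m : ℕ) : Bool := ch.all fun b => Nat.ble (pop (m &&& b)) mx

/-- `m` meets every block in an allowed number of points -/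
def okFull (ints : List ℕ) (ch : List ℕ) (m : ℕ) : Bool :=
  ch.all fun b => ints.any (Nat.beq (pop (m &&& b)))

/-- extensions of `m` by `r` further points -/
def ext (drop : ℕ → ℕ → Bool) (mx : ℕ) (ch : List ℕ) : ℕ → List ℕ → ℕ → ℕ → List ℕ
  | _, _, 0, m => [m]
  | 0, _, _ + 1, _ => []
  | _ + 1, [], _ + 1, _ => []
  | L + 1, p :: rest, r + 1, m =>
    (if m.testBit p then [] else
      if okPre mx ch (m ||| (1 <<< p)) then ext drop mx ch L rest r (m ||| (1 <<< p)) else []) ++
    ext drop mx ch L (if m.testBit p then rest else rest.filter fun q => m.testBit q || !drop p q)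
      (r + 1) m

/-- the same membership pattern in all the listed blocks -/
def sameSig (l : List ℕ) (p q : ℕ) : Bool := l.all fun b => b.testBit p == b.testBit q

/-- no symmetry breaking -/
def noDrop (_ : List ℕ) (_ _ : ℕ) : Bool := false

/-- all subsets of size `r` -/
def combs : List ℕ → ℕ → ℕ → List ℕ
  | _, 0, m => [m]
  | [], _ + 1, _ => []
  | p :: rest, r + 1, m => combs rest r (m ||| (1 <<< p)) ++ combs rest (r + 1) m

/-- completions of the chosen blocks covering the listed sets -/
def complete (dropF : List ℕ → ℕ → ℕ → Bool) (ints : List ℕ) (mx : ℕ) (pts : List ℕ) (r : ℕ) :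
    List ℕ → List ℕ → List (List ℕ)
  | [], ch => [ch]
  | s :: rest, ch =>
    if ch.any (fun b => Nat.beq (b &&& s) s) then complete dropF ints mx pts r rest ch
    else ((ext (dropF (s :: ch)) mx ch pts.length pts r s).filter (okFull ints ch)).flatMap fun b =>
      complete dropF ints mx pts r rest (b :: ch)

/-! ### Masks -/

theorem lt_of_bits {m n : ℕ} (hn : n ≤ 24) (h : ∀ j, m.testBit j = true → j < n) :
    m < 2 ^ 24 := by
  refine Nat.lt_pow_two_of_testBit _ fun j hj => ?_
  rw [← Bool.not_eq_true]
  exact fun hb => absurd (h j hb) (by omega)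

theorem pop_le_of_sub {a b : ℕ} (h : ∀ j, a.testBit j = true → b.testBit j = true) :
    pop a ≤ pop b := by
  rw [← card_toSet, ← card_toSet]
  exact Finset.card_le_card fun p hp => mem_toSet.2 (h _ (mem_toSet.1 hp))

theorem eq_of_sub_of_pop {a b n : ℕ} (hn : n ≤ 24) (ha : ∀ j, a.testBit j = true → j < n)
    (hb : ∀ j, b.testBit j = true → j < n) (h : ∀ j, a.testBit j = true → b.testBit j = true)
    (hp : pop b ≤ pop a) : a = b := by
  rw [← card_toSet, ← card_toSet] at hp
  exact toSet_injOn (lt_of_bits hn ha) (lt_of_bits hn hb)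
    (Finset.eq_of_subset_of_card_le (fun p hp => mem_toSet.2 (h _ (mem_toSet.1 hp))) hp)

theorem testBit_or_bit (m p j : ℕ) :
    (m ||| (1 <<< p)).testBit j = true ↔ m.testBit j = true ∨ p = j := by
  simp [Nat.testBit_or, Nat.one_shiftLeft, Nat.testBit_two_pow]

theorem pop_or_bit {m p : ℕ} (hp : p < 24) (h : m.testBit p = false) :
    pop (m ||| (1 <<< p)) = pop m + 1 := by
  rw [← card_toSet, ← card_toSet]
  have : toSet (m ||| (1 <<< p)) = insert (pt p) (toSet m) := by
    ext q
    rw [mem_toSet, testBit_or_bit, Finset.mem_insert, mem_toSet]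
    constructor
    · rintro (h1 | h1)
      · exact Or.inr h1
      · exact Or.inl (by rw [h1, pt_idx])
    · rintro (h1 | h1)
      · exact Or.inr (by rw [h1, idx_pt hp])
      · exact Or.inl h1
  rw [this, Finset.card_insert_of_notMem (by simp [idx_pt hp, h])]

theorem mem_combs {n : ℕ} (hn : n ≤ 24) :
    ∀ (pts : List ℕ) (r m x : ℕ), pts.Nodup → (∀ j ∈ pts, j < n ∧ m.testBit j = false) →
      (∀ j, m.testBit j = true → j < n) → (∀ j, x.testBit j = true → j < n) →
      (∀ j, m.testBit j = true → x.testBit j = true) →
      (∀ j, x.testBit j = true → m.testBit j = true ∨ j ∈ pts) → pop x = pop m + r →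
      x ∈ combs pts r m := by
  intro pts
  induction pts with
  | nil =>
    intro r m x _ _ hm hx hmx hxm hpop
    have he : x = m := (eq_of_sub_of_pop hn hx hm (fun j hj => by simpa using hxm j hj)
      (by omega))
    cases r with
    | zero => simp [combs, he]
    | succ r => rw [he] at hpop; omega
  | cons p rest ih =>
    intro r m x hnd hpts hm hx hmx hxm hpop
    cases r with
    | zero =>
      have he : m = x := eq_of_sub_of_pop hn hm hx hmx (by omega)
      simp [combs, he]
    | succ r =>
      rw [List.nodup_cons] at hnd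
      obtain ⟨hpn, hpm⟩ := hpts p List.mem_cons_self
      rw [combs, List.mem_append]
      by_cases hxp : x.testBit p = true
      · refine Or.inl (ih r _ x hnd.2 (fun j hj => ⟨(hpts j (List.mem_cons_of_mem _ hj)).1, ?_⟩)
          (fun j hj => ?_) hx (fun j hj => ?_) (fun j hj => ?_) ?_)
        · rw [← Bool.not_eq_true, testBit_or_bit, not_or]
          exact ⟨by simp [(hpts j (List.mem_cons_of_mem _ hj)).2], fun e => hnd.1 (e ▸ hj)⟩
        · rcases (testBit_or_bit _ _ _).1 hj with h | rfl
          exacts [hm j h, hpn]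
        · rcases (testBit_or_bit _ _ _).1 hj with h | rfl
          exacts [hmx j h, hxp]
        · rcases hxm j hj with h | h
          · exact Or.inl ((testBit_or_bit _ _ _).2 (Or.inl h))
          · rcases List.mem_cons.1 h with rfl | h
            · exact Or.inl ((testBit_or_bit _ _ _).2 (Or.inr rfl))
            · exact Or.inr h
        · rw [pop_or_bit (by omega) hpm]; omega
      · refine Or.inr (ih (r + 1) m x hnd.2 (fun j hj => hpts j (List.mem_cons_of_mem _ hj))
          hm hx hmx (fun j hj => ?_) hpop)
        rcases hxm j hj with h | h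
        · exact Or.inl h
        · rcases List.mem_cons.1 h with rfl | h
          · exact absurd hj hxp
          · exact Or.inr h

/-! ### Soundness -/

section Sound

variable {α : Type*} [Fintype α] [DecidableEq α] {n t k mx : ℕ} {ints : List ℕ}
  {B : Set (Finset α)}

/-- two different blocks meet in an allowed number of points -/
def InterOK (B : Set (Finset α)) (ints : List ℕ) : Prop :=
  ∀ b ∈ B, ∀ c ∈ B, b ≠ c → (b ∩ c).card ∈ ints

theorem pop_and_mem (hn : n ≤ 24) (E : α ≃ Fin n) (hI : InterOK B ints) {x y : ℕ}
    (hx : x ∈ encSet E B) (hy : y ∈ encSet E B) (hxy : x ≠ y) : pop (x &&& y) ∈ ints := by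
  obtain ⟨b, hb, rfl⟩ := hx
  obtain ⟨c, hc, rfl⟩ := hy
  rw [enc_and hn, pop_enc hn]
  exact hI b hb c hc fun e => hxy (congrArg _ e)

theorem mem_ext (hn : n ≤ 24) (hI : InterOK B ints) (hmx : ∀ i ∈ ints, i ≤ mx)
    {drop : ℕ → ℕ → Bool} {ch : List ℕ} {s : ℕ}
    (hdrop : ∀ p q, drop p q = true → ∀ y ∈ s :: ch, y.testBit p = y.testBit q)
    (hs : ∀ y ∈ ch, y &&& s ≠ s) :
    ∀ (L : ℕ) (pts : List ℕ), pts.length ≤ L → (∀ j ∈ pts, j < n) →
    ∀ (r m : ℕ) (E : α ≃ Fin n) (x : ℕ), x ∈ encSet E B → (∀ y ∈ ch, y ∈ encSet E B) →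
      (∀ j, s.testBit j = true → m.testBit j = true) →
      (∀ j, m.testBit j = true → x.testBit j = true) →
      (∀ j, x.testBit j = true → m.testBit j = true ∨ j ∈ pts) → pop x = pop m + r →
      ∃ E' : α ≃ Fin n, ∃ x' ∈ ext drop mx ch L pts r m, x' ∈ encSet E' B ∧
        (∀ y ∈ ch, y ∈ encSet E' B) ∧ (∀ j, s.testBit j = true → x'.testBit j = true) ∧
        ((∀ p q, drop p q = false) → E' = E) := by
  intro L
  induction L with
  | zero =>
    intro pts hL _ r m E x hxS hchS hsm hmx' hxm hpop
    obtain rfl : pts = [] := List.length_eq_zero_iff.1 (Nat.le_zero.1 hL)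
    obtain ⟨b, hb, rfl⟩ := hxS
    have hbits : ∀ j, (enc E b).testBit j = true → j < n :=
      fun j hj => lt_of_testBit_enc hn E b hj
    have he : enc E b = m := eq_of_sub_of_pop hn hbits (fun j hj => hbits j (hmx' j hj))
      (fun j hj => by simpa using hxm j hj) (by omega)
    cases r with
    | zero => exact ⟨E, m, by simp [ext], he ▸ ⟨b, hb, rfl⟩, hchS, hsm, fun _ => rfl⟩
    | succ r => rw [he] at hpop; omega
  | succ L ih =>
    intro pts hL hpts r m E x hxS hchS hsm hmx' hxm hpop
    have hbits : ∀ j, x.testBit j = true → j < n := by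
      obtain ⟨b, -, rfl⟩ := hxS
      exact fun j hj => lt_of_testBit_enc hn E b hj
    cases r with
    | zero =>
      have he : m = x := eq_of_sub_of_pop hn (fun j hj => hbits j (hmx' j hj)) hbits hmx'
        (by omega)
      exact ⟨E, m, by simp [ext], he ▸ hxS, hchS, hsm, fun _ => rfl⟩
    | succ r =>
      cases pts with
      | nil =>
        have he : x = m := eq_of_sub_of_pop hn hbits (fun j hj => hbits j (hmx' j hj))
          (fun j hj => by simpa using hxm j hj) (by omega)
        rw [he] at hpop; omega
      | cons p rest =>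
        simp only [List.length_cons, Nat.succ_le_succ_iff] at hL
        have hrest : ∀ j ∈ rest, j < n := fun j hj => hpts j (List.mem_cons_of_mem _ hj)
        have hpn : p < n := hpts p List.mem_cons_self
        by_cases hmp : m.testBit p = true
        · obtain ⟨E', x', hx', h1, h2, h3⟩ := ih rest hL hrest (r + 1) m E x hxS hchS hsm hmx'
            (fun j hj => by
              rcases hxm j hj with h | h
              · exact Or.inl h
              · rcases List.mem_cons.1 h with rfl | h
                · exact Or.inl hmp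
                · exact Or.inr h) hpop
          refine ⟨E', x', ?_, h1, h2, h3⟩
          rw [ext, if_pos hmp, if_pos hmp]
          simpa using hx'
        have hmp' : m.testBit p = false := by simpa using hmp
        -- the branch containing `p`
        have incl : ∀ (E₁ : α ≃ Fin n) (x₁ : ℕ), x₁ ∈ encSet E₁ B →
            (∀ y ∈ ch, y ∈ encSet E₁ B) →
            (∀ j, m.testBit j = true → x₁.testBit j = true) →
            (∀ j, x₁.testBit j = true → m.testBit j = true ∨ j ∈ p :: rest) →
            pop x₁ = pop m + (r + 1) → x₁.testBit p = true →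
            ∃ E' : α ≃ Fin n, ∃ x' ∈ ext drop mx ch (L + 1) (p :: rest) (r + 1) m, x' ∈ encSet E' B ∧
              (∀ y ∈ ch, y ∈ encSet E' B) ∧ (∀ j, s.testBit j = true → x'.testBit j = true) ∧
              ((∀ p q, drop p q = false) → E' = E₁) := by
          intro E₁ x₁ hxS hchS hmx₁ hxm hpop hxp
          have hsub : ∀ j, (m ||| (1 <<< p)).testBit j = true → x₁.testBit j = true := by
            intro j hj
            rcases (testBit_or_bit _ _ _).1 hj with h | rfl
            exacts [hmx₁ j h, hxp]
          have hok : okPre mx ch (m ||| (1 <<< p)) = true := by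
            simp only [okPre, List.all_eq_true, Nat.ble_eq]
            intro y hy
            have hne : x₁ ≠ y := by
              rintro rfl
              refine hs x₁ hy (Nat.eq_of_testBit_eq fun j => ?_)
              rw [Nat.testBit_and]
              cases hj : s.testBit j
              · simp
              · simp [hmx₁ j (hsm j hj)]
            refine le_trans (pop_le_of_sub fun j hj => ?_)
              (hmx _ (pop_and_mem hn E₁ hI hxS (hchS y hy) hne))
            simp only [Nat.testBit_and, Bool.and_eq_true] at hj ⊢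
            exact ⟨hsub j hj.1, hj.2⟩
          obtain ⟨E', x', hx', h1, h2, h3⟩ := ih rest hL hrest r (m ||| (1 <<< p)) E₁ x₁ hxS hchS
            (fun j hj => (testBit_or_bit _ _ _).2 (Or.inl (hsm j hj))) hsub
            (fun j hj => by
              rcases hxm j hj with h | h
              · exact Or.inl ((testBit_or_bit _ _ _).2 (Or.inl h))
              · rcases List.mem_cons.1 h with rfl | h
                · exact Or.inl ((testBit_or_bit _ _ _).2 (Or.inr rfl))
                · exact Or.inr h)
            (by rw [pop_or_bit (by omega) hmp']; omega)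
          refine ⟨E', x', ?_, h1, h2, h3⟩
          rw [ext, if_neg hmp, if_pos hok]
          exact List.mem_append_left _ hx'
        by_cases hxp : x.testBit p = true
        · exact incl E x hxS hchS hmx' hxm hpop hxp
        by_cases hq : ∃ q ∈ rest, x.testBit q = true ∧ m.testBit q = false ∧ drop p q = true
        · obtain ⟨q, hq, hxq, hmq, hd⟩ := hq
          let P : Fin n := ⟨p, hpn⟩
          let Q : Fin n := ⟨q, hrest q hq⟩
          obtain ⟨b, hb, rfl⟩ := hxS
          have hch' : ∀ y ∈ ch, y ∈ encSet (E.trans (Equiv.swap P Q)) B := by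
            intro y hy
            obtain ⟨c, hc, rfl⟩ := hchS y hy
            exact ⟨c, hc, enc_trans_swap_eq hn E P Q c
              (hdrop p q hd _ (List.mem_cons_of_mem _ hy))⟩
          refine (incl _ _ ⟨b, hb, rfl⟩ hch' (fun j hj => ?_) (fun j hj => ?_) ?_ ?_).imp
            fun E₂ h => h.imp fun x₂ g =>
              ⟨g.1, g.2.1, g.2.2.1, g.2.2.2.1, fun hno => absurd hd (by simp [hno])⟩
          · refine (testBit_enc_trans hn E _ b j).2 ⟨⟨j, hbits j (hmx' j hj)⟩, hmx' j hj, ?_⟩
            have h1 : j ≠ p := fun e => hmp (e ▸ hj)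
            have h2 : j ≠ q := fun e => by rw [e, hmq] at hj; exact absurd hj (by decide)
            rw [Equiv.swap_apply_of_ne_of_ne (by simp [P, Fin.ext_iff, h1])
              (by simp [Q, Fin.ext_iff, h2])]
          · obtain ⟨i, hi, rfl⟩ := (testBit_enc_trans hn E _ b j).1 hj
            rcases eq_or_ne i P with rfl | hiP
            · exact absurd hi hxp
            rcases eq_or_ne i Q with rfl | hiQ
            · exact Or.inr (by simp [P])
            · rw [Equiv.swap_apply_of_ne_of_ne hiP hiQ]; exact hxm _ hi
          · rw [pop_enc hn, ← pop_enc hn E]; exact hpop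
          · exact (testBit_enc_trans hn E _ b p).2 ⟨Q, hxq, by simp [P]⟩
        · push Not at hq
          obtain ⟨E', x', hx', h1, h2, h3⟩ := ih
            (rest.filter fun q => m.testBit q || !drop p q)
            (le_trans (List.length_filter_le _ _) hL)
            (fun j hj => hrest j (List.mem_of_mem_filter hj)) (r + 1) m E x hxS hchS hsm hmx'
            (fun j hj => by
              rcases hxm j hj with h | h
              · exact Or.inl h
              · rcases List.mem_cons.1 h with rfl | h
                · exact absurd hj hxp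
                · refine Or.inr (List.mem_filter.2 ⟨h, ?_⟩)
                  cases hmj : m.testBit j
                  · simpa using hq j h hj hmj
                  · rfl) hpop
          refine ⟨E', x', ?_, h1, h2, h3⟩
          rw [ext, if_neg hmp, if_neg hmp]
          exact List.mem_append_right _ hx'

theorem complete_sound (hn : n ≤ 24) (hB : IsSteinerSystem t k B) (hI : InterOK B ints)
    (hmx : ∀ i ∈ ints, i ≤ mx) {dropF : List ℕ → ℕ → ℕ → Bool}
    (hdrop : ∀ l p q, dropF l p q = true → sameSig l p q = true) {r : ℕ} (hr : t + r = k) :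
    ∀ (ts ch : List ℕ) (E : α ≃ Fin n), (∀ u ∈ ts, (∀ j, u.testBit j = true → j < n) ∧ pop u = t) →
      (∀ y ∈ ch, y ∈ encSet E B) →
      ∃ E' : α ≃ Fin n, ∃ l ∈ complete dropF ints mx (List.range n) r ts ch,
        (∀ y ∈ l, y ∈ encSet E' B) ∧ (∀ y ∈ ch, y ∈ l) ∧ ∀ u ∈ ts, ∃ y ∈ l, y &&& u = u := by
  intro ts
  induction ts with
  | nil =>
    intro ch E _ hch
    exact ⟨E, ch, by simp [complete], hch, fun y hy => hy, by simp⟩
  | cons s rest ih =>
    intro ch E hts hch
    have hrest := fun u hu => hts u (List.mem_cons_of_mem _ hu)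
    by_cases hcov : (ch.any fun b => Nat.beq (b &&& s) s) = true
    · obtain ⟨E', l, hl, h1, h2, h3⟩ := ih ch E hrest hch
      refine ⟨E', l, by rw [complete, if_pos hcov]; exact hl, h1, h2, fun u hu => ?_⟩
      rcases List.mem_cons.1 hu with rfl | hu
      · obtain ⟨y, hy, hyu⟩ := List.any_eq_true.1 hcov
        exact ⟨y, h2 y hy, Nat.eq_of_beq_eq_true hyu⟩
      · exact h3 u hu
    have hs : ∀ y ∈ ch, y &&& s ≠ s := fun y hy e =>
      hcov (List.any_eq_true.2 ⟨y, hy, by rw [Nat.beq_eq]; exact e⟩)
    obtain ⟨hsn, hspop⟩ := hts s List.mem_cons_self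
    obtain ⟨S₀, hS₀⟩ := exists_enc_eq hn E hsn
    obtain ⟨b, ⟨hb, hSb⟩, -⟩ := hB.2 S₀ (by rw [← pop_enc hn E, hS₀, hspop])
    have hsb : ∀ j, s.testBit j = true → (enc E b).testBit j = true := by
      intro j hj
      rw [← hS₀, testBit_enc hn] at hj
      obtain ⟨a, ha, e⟩ := hj
      exact (testBit_enc hn E b j).2 ⟨a, hSb ha, e⟩
    obtain ⟨E₁, x', hx', h1, h2, h3, -⟩ := mem_ext hn hI hmx
      (drop := dropF (s :: ch)) (ch := ch) (s := s)
      (fun p q hpq y hy => by
        have := List.all_eq_true.1 (hdrop _ _ _ hpq) y hy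
        simpa using this)
      hs (List.range n).length (List.range n) le_rfl (fun j hj => List.mem_range.1 hj) r s E (enc E b) ⟨b, hb, rfl⟩ hch
      (fun j hj => hj) hsb
      (fun j hj => Or.inr (List.mem_range.2 (lt_of_testBit_enc hn E b hj)))
      (by rw [pop_enc hn, hB.1 b hb, hspop, hr])
    have hx's : x' &&& s = s := Nat.eq_of_testBit_eq fun j => by
      rw [Nat.testBit_and]
      cases hj : s.testBit j
      · simp
      · simp [h3 j hj]
    have hfull : okFull ints ch x' = true := by
      simp only [okFull, List.all_eq_true, List.any_eq_true, Nat.beq_eq]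
      intro y hy
      exact ⟨_, pop_and_mem hn E₁ hI h1 (h2 y hy) (fun e => hs y hy (e ▸ hx's)), rfl⟩
    obtain ⟨E', l, hl, g1, g2, g3⟩ := ih (x' :: ch) E₁ hrest (fun y hy => by
      rcases List.mem_cons.1 hy with rfl | hy
      exacts [h1, h2 y hy])
    refine ⟨E', l, ?_, g1, fun y hy => g2 y (List.mem_cons_of_mem _ hy), fun u hu => ?_⟩
    · rw [complete, if_neg hcov]
      exact List.mem_flatMap.2 ⟨x', List.mem_filter.2 ⟨hx', hfull⟩, hl⟩
    · rcases List.mem_cons.1 hu with rfl | hu
      · exact ⟨x', g2 x' List.mem_cons_self, hx's⟩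
      · exact g3 u hu

/-- every completion is relabelled into the standard list by the matching permutation -/
def certOK (n : ℕ) (std : List ℕ) (sols : List (List ℕ)) (wits : List ℕ) : Bool :=
  Nat.beq sols.length wits.length && (sols.zip wits).all fun lw =>
    isPermN n lw.2 && lw.1.all fun m => std.any (Nat.beq (actP lw.2 m))

theorem labelling_of_cert (hn : n ≤ 24) (hB : IsSteinerSystem t k B)
    (hα : Fintype.card α = n) (hI : InterOK B ints) (hmx : ∀ i ∈ ints, i ≤ mx)
    {dropF : List ℕ → ℕ → ℕ → Bool}
    (hdrop : ∀ l p q, dropF l p q = true → sameSig l p q = true) {r : ℕ} (hr : t + r = k)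
    {known : List ℕ} {E : α ≃ Fin n} (hknown : ∀ y ∈ known, y ∈ encSet E B)
    {std wits : List ℕ} (hstd : std.length * Nat.choose k t = Nat.choose n t)
    (hcert : certOK n std
      (complete dropF ints mx (List.range n) r (combs (List.range n) t 0) known) wits = true) :
    ∃ E' : α ≃ Fin n, encSet E' B = {m | m ∈ std} := by
  classical
  set ts := combs (List.range n) t 0 with hts
  have hts' : ∀ u ∈ ts, (∀ j, u.testBit j = true → j < n) ∧ pop u = t := by
    have gen : ∀ (pts : List ℕ) (r m : ℕ), pts.Nodup → (∀ j ∈ pts, j < n ∧ m.testBit j = false) →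
        (∀ j, m.testBit j = true → j < n) → ∀ u ∈ combs pts r m,
          (∀ j, u.testBit j = true → j < n) ∧ pop u = pop m + r := by
      intro pts
      induction pts with
      | nil =>
        intro r m _ _ hm u hu
        cases r with
        | zero => simp only [combs, List.mem_singleton] at hu; subst hu; exact ⟨hm, rfl⟩
        | succ r => simp [combs] at hu
      | cons p rest ih =>
        intro r m hnd hpts hm u hu
        cases r with
        | zero => simp only [combs, List.mem_singleton] at hu; subst hu; exact ⟨hm, rfl⟩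
        | succ r =>
          rw [List.nodup_cons] at hnd
          obtain ⟨hpn, hpm⟩ := hpts p List.mem_cons_self
          rw [combs, List.mem_append] at hu
          rcases hu with hu | hu
          · obtain ⟨h1, h2⟩ := ih r _ hnd.2 (fun j hj =>
              ⟨(hpts j (List.mem_cons_of_mem _ hj)).1, by
                rw [← Bool.not_eq_true, testBit_or_bit, not_or]
                exact ⟨by simp [(hpts j (List.mem_cons_of_mem _ hj)).2], fun e => hnd.1 (e ▸ hj)⟩⟩)
              (fun j hj => by
                rcases (testBit_or_bit _ _ _).1 hj with h | rfl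
                exacts [hm j h, hpn]) u hu
            exact ⟨h1, by rw [h2, pop_or_bit (by omega) hpm]; omega⟩
          · exact ih (r + 1) m hnd.2 (fun j hj => hpts j (List.mem_cons_of_mem _ hj)) hm u hu
    intro u hu
    have hp0 : pop 0 = 0 := by rw [← card_toSet, toSet_zero, Finset.card_empty]
    obtain ⟨h1, h2⟩ := gen (List.range n) t 0 List.nodup_range
      (fun j hj => ⟨List.mem_range.1 hj, by simp⟩) (by simp) u hu
    exact ⟨h1, by rw [h2, hp0]; simp⟩
  obtain ⟨E', l, hl, h1, -, h3⟩ := complete_sound hn hB hI hmx hdrop hr ts known E hts' hknown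
  simp only [certOK, Bool.and_eq_true, Nat.beq_eq, List.all_eq_true, List.any_eq_true] at hcert
  obtain ⟨i, hi, rfl⟩ := List.getElem_of_mem hl
  have hiw : i < wits.length := hcert.1 ▸ hi
  obtain ⟨hperm, hmap⟩ := hcert.2 (_, wits[i]) (List.mem_iff_getElem.2
    ⟨i, by rw [List.length_zip, hcert.1]; simpa using hiw, by rw [List.getElem_zip]⟩)
  obtain ⟨E'', hE''⟩ := exists_trans_actP hn E' hperm
  have hsub : encSet E'' B ⊆ {m | m ∈ std} := by
    rintro _ ⟨b, hb, rfl⟩
    obtain ⟨u, hu, huc⟩ := Finset.exists_subset_card_eq (s := b) (n := t)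
      (by rw [hB.1 b hb]; omega)
    have humem : enc E' u ∈ ts := by
      refine mem_combs hn (List.range n) t 0 _ List.nodup_range
        (fun j hj => ⟨List.mem_range.1 hj, by simp⟩) (by simp)
        (fun j hj => lt_of_testBit_enc hn E' u hj) (by simp)
        (fun j hj => Or.inr (List.mem_range.2 (lt_of_testBit_enc hn E' u hj))) ?_
      rw [pop_enc hn, huc, show pop 0 = 0 by rw [← card_toSet, toSet_zero, Finset.card_empty]]
      simp
    obtain ⟨y, hy, hyu⟩ := h3 _ humem
    obtain ⟨c, hc, rfl⟩ := h1 y hy
    rw [enc_and_eq_iff hn] at hyu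
    obtain rfl := (hB.2 u huc).unique ⟨hb, hu⟩ ⟨hc, hyu⟩
    obtain ⟨z, hz, hzeq⟩ := hmap _ hy
    show enc E'' b ∈ std
    rw [hE'', hzeq]
    exact hz
  refine ⟨E'', Set.eq_of_subset_of_ncard_le hsub ?_ (List.finite_toSet std)⟩
  have hcard : (encSet E'' B).ncard = B.ncard :=
    Set.ncard_image_of_injective _ (enc_injective hn E'')
  have hmul : B.ncard * Nat.choose k t = Nat.choose n t := by
    have h := card_blocksThrough_mul hB ∅ (by simp)
    simp only [Finset.card_empty, Nat.sub_zero, hα] at h
    rw [← h, Set.ncard_eq_toFinset_card _ B.toFinite]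
    congr 2
    ext c
    simp [mem_blocksThrough]
  have hlen : std.length = B.ncard :=
    Nat.eq_of_mul_eq_mul_right (Nat.choose_pos (by omega)) (hstd.trans hmul.symm)
  rw [hcard, ← hlen, show {m | m ∈ std} = (std.toFinset : Set ℕ) by ext; simp,
    Set.ncard_coe_finset]
  exact List.toFinset_card_le std

end Sound

end CfsgLib.SteinerUnique
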