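import Cfsg.Agent.Lib.KnownA.SteinerUnique.CertSmall
import Cfsg.Agent.Lib.KnownA.SteinerUnique.Cert21
import Cfsg.Agent.Lib.KnownA.SteinerUnique.Cert22
import Cfsg.Agent.Lib.KnownA.SteinerUnique.Cert23
import Cfsg.Agent.Lib.KnownA.SteinerUnique.Cert24
import Cfsg.Agent.Lib.Spor.SteinerSmall

/-!
Every Steiner system with the parameters of the Witt designs, and of their derived systems, can
be labelled so that its blocks are the standard ones.
-/

set_option autoImplicit false

namespace CfsgLib.SteinerUnique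

open Cfsg CfsgLib.Spor

variable {α : Type*} [Fintype α] [DecidableEq α]

/-- the system can be labelled so that its blocks are the listed masks -/
def Labelled (B : Set (Finset α)) (n : ℕ) (std : List ℕ) : Prop :=
  ∃ E : α ≃ Fin n, encSet E B = {m | m ∈ std}

theorem Labelled.iso {β : Type*} [Fintype β] [DecidableEq β] {n : ℕ} (hn : n ≤ 24)
    {B : Set (Finset α)} {B' : Set (Finset β)} {std : List ℕ} (h : Labelled B n std)
    (h' : Labelled B' n std) : SetSystemIso B B' := by
  obtain ⟨E, hE⟩ := h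
  obtain ⟨E', hE'⟩ := h'
  exact iso_of_encSet_eq hn (hE.trans hE'.symm)

theorem card_subtype_ne {n : ℕ} (hα : Fintype.card α = n + 1) (p : α) :
    Fintype.card {a : α // a ≠ p} = n := by
  rw [Fintype.card_subtype_compl, Fintype.card_subtype_eq, hα, Nat.add_sub_cancel]

theorem exists_extend {n t k : ℕ} (hn : n + 1 ≤ 24) {B : Set (Finset α)} {p : α}
    {std : List ℕ} (h : Labelled {b' : Finset {a : α // a ≠ p} |
      ∃ b ∈ B, p ∈ b ∧ b' = Finset.subtype (fun a => a ≠ p) b} n std)
    (_hB : IsSteinerSystem (t + 1) (k + 1) B) :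
    ∃ E : α ≃ Fin (n + 1), ∀ y ∈ (std.map fun m => m ||| (1 <<< n)), y ∈ encSet E B := by
  obtain ⟨E₀, hE₀⟩ := h
  let E : α ≃ Fin (n + 1) :=
    (Equiv.optionSubtypeNe p).symm.trans (E₀.optionCongr.trans (finSuccEquiv' (Fin.last n)).symm)
  have hEp : (E p).val = n := by simp [E]
  have hEa : ∀ (a : α) (ha : a ≠ p), (E a).val = (E₀ ⟨a, ha⟩).val := by
    intro a ha
    simp [E, ha]
  refine ⟨E, fun y hy => ?_⟩
  obtain ⟨m, hm, rfl⟩ := List.mem_map.1 hy
  obtain ⟨b', ⟨b, hb, hpb, rfl⟩, hm'⟩ := (show m ∈ encSet E₀ _ by rw [hE₀]; exact hm)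
  refine ⟨b, hb, Nat.eq_of_testBit_eq fun j => ?_⟩
  rw [Bool.eq_iff_iff, testBit_enc hn, testBit_or_bit, ← hm', testBit_enc (by omega)]
  constructor
  · rintro ⟨a, ha, rfl⟩
    by_cases hap : a = p
    · exact Or.inr (by rw [hap, hEp])
    · exact Or.inl ⟨⟨a, hap⟩, by simpa using ha, (hEa a hap).symm⟩
  · rintro (⟨a, ha, rfl⟩ | rfl)
    · exact ⟨a.1, by simpa using ha, hEa a.1 a.2⟩
    · exact ⟨p, hpb, hEp⟩

theorem eq_encSet_of_subset {n t k : ℕ} (hn : n ≤ 24) (hα : Fintype.card α = n)
    {B : Set (Finset α)} (hB : IsSteinerSystem t k B) (htk : t ≤ k) {std : List ℕ}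
    (hnd : std.Nodup) (hlen : std.length * Nat.choose k t = Nat.choose n t)
    {E : α ≃ Fin n} (hsub : ∀ m ∈ std, m ∈ encSet E B) : encSet E B = {m | m ∈ std} := by
  classical
  have hset : {m | m ∈ std} = (std.toFinset : Set ℕ) := by ext; simp
  rw [hset]
  refine (Set.eq_of_subset_of_ncard_le (fun m hm => hsub m (List.mem_toFinset.1 hm)) ?_
    (B.toFinite.image _)).symm
  have h1 := steiner_ncard_mul hB
  rw [hα] at h1
  rw [Set.ncard_coe_finset,
    List.toFinset_card_of_nodup hnd, encSet, Set.ncard_image_of_injective _ (enc_injective hn E)]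
  exact (Nat.eq_of_mul_eq_mul_right (Nat.choose_pos htk) (h1.trans hlen.symm)).le

theorem eq_std_of_subset {n t k : ℕ} (hn : n ≤ 24) (hα : Fintype.card α = n)
    {B : Set (Finset α)} (hB : IsSteinerSystem t k B) (htk : t ≤ k) {std : List ℕ}
    (hnd : std.Nodup) (hlen : std.length * Nat.choose k t = Nat.choose n t)
    {E : α ≃ Fin n} (hsub : ∀ m ∈ std, m ∈ encSet E B) : Labelled B n std :=
  ⟨E, eq_encSet_of_subset hn hα hB htk hnd hlen hsub⟩

theorem noDrop_sig : ∀ (l : List ℕ) (p q : ℕ), noDrop l p q = true → sameSig l p q = true :=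
  fun _ _ _ h => absurd h (by simp [noDrop])

theorem inter_lt {t k : ℕ} {B : Set (Finset α)} (hB : IsSteinerSystem t k B)
    {b c : Finset α} (hb : b ∈ B) (hc : c ∈ B) (h : b ≠ c) : (b ∩ c).card < t :=
  not_le.1 fun hle => h (steiner_unique hB hb hc hle)

theorem labelled9 (hα : Fintype.card α = 9) {B : Set (Finset α)} (hB : IsSteinerSystem 2 3 B) :
    Labelled B 9 std9 := by
  refine labelling_of_cert (ints := [0, 1]) (by norm_num) hB hα (fun b hb c hc hne => ?_)
    (by decide) (fun _ _ _ h => h) (r := 1) rfl (known := []) (E := Fintype.equivFinOfCardEq hα)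
    (by simp) (by decide +kernel) cert9
  have := inter_lt hB hb hc hne
  interval_cases h : (b ∩ c).card <;> simp

theorem labelled10 (hα : Fintype.card α = 10) {B : Set (Finset α)} (hB : IsSteinerSystem 3 4 B) :
    Labelled B 10 std10 := by
  obtain ⟨p⟩ := Fintype.card_pos_iff.1 (show 0 < Fintype.card α by rw [hα]; norm_num)
  obtain ⟨E, hE⟩ := exists_extend (by norm_num)
    (labelled9 (card_subtype_ne hα p) (steiner_derived hB p)) hB
  refine labelling_of_cert (ints := [0, 1, 2]) (by norm_num) hB hα (fun b hb c hc hne => ?_)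
    (by decide) noDrop_sig (r := 1) rfl hE (by decide +kernel) cert10
  have := inter_lt hB hb hc hne
  interval_cases h : (b ∩ c).card <;> simp

theorem labelled11 (hα : Fintype.card α = 11) {B : Set (Finset α)} (hB : IsSteinerSystem 4 5 B) :
    Labelled B 11 std11 := by
  obtain ⟨p⟩ := Fintype.card_pos_iff.1 (show 0 < Fintype.card α by rw [hα]; norm_num)
  obtain ⟨E, hE⟩ := exists_extend (by norm_num)
    (labelled10 (card_subtype_ne hα p) (steiner_derived hB p)) hB
  refine labelling_of_cert (ints := [0, 1, 2, 3]) (by norm_num) hB hα (fun b hb c hc hne => ?_)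
    (by decide) noDrop_sig (r := 1) rfl hE (by decide +kernel) cert11
  have := inter_lt hB hb hc hne
  interval_cases h : (b ∩ c).card <;> simp

set_option maxRecDepth 100000 in
theorem compl12 :
    (std12.all fun m => (std11.map fun m => m ||| (1 <<< 11)).any (Nat.beq m) ||
      (std11.map fun m => m ||| (1 <<< 11)).any (Nat.beq (4095 ^^^ m))) = true := by
  decide +kernel

theorem enc_univ {n : ℕ} (hn : n ≤ 24) (E : α ≃ Fin n) : enc E Finset.univ = 2 ^ n - 1 := by
  apply Nat.eq_of_testBit_eq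
  intro j
  rw [Nat.testBit_two_pow_sub_one, Bool.eq_iff_iff, testBit_enc hn, decide_eq_true_eq]
  constructor
  · rintro ⟨a, -, rfl⟩; exact (E a).2
  · exact fun h => ⟨E.symm ⟨j, h⟩, Finset.mem_univ _, by simp⟩

theorem labelled12 (hα : Fintype.card α = 12) {B : Set (Finset α)} (hB : IsSteinerSystem 5 6 B) :
    Labelled B 12 std12 := by
  obtain ⟨p⟩ := Fintype.card_pos_iff.1 (show 0 < Fintype.card α by rw [hα]; norm_num)
  obtain ⟨E, hE⟩ := exists_extend (by norm_num)
    (labelled11 (card_subtype_ne hα p) (steiner_derived hB p)) hB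
  refine eq_std_of_subset (E := E) (by norm_num) hα hB (by norm_num)
    (nodup_of_ascending (by decide +kernel)) (by decide +kernel) fun m hm => ?_
  have h := List.all_eq_true.1 compl12 m hm
  simp only [Bool.or_eq_true, List.any_eq_true, Nat.beq_eq] at h
  rcases h with ⟨y, hy, rfl⟩ | ⟨y, hy, hmy⟩
  · exact hE _ hy
  · obtain ⟨b, hb, rfl⟩ := hE _ hy
    refine ⟨bᶜ, s5612_compl_mem hα hB hb, ?_⟩
    rw [show bᶜ = symmDiff Finset.univ b by ext a; simp [Finset.mem_symmDiff],
      enc_symmDiff (by norm_num), enc_univ (by norm_num), ← hmy]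
    simp [← Nat.xor_assoc]

theorem s2521_inter_card (hα : Fintype.card α = 21) {B : Set (Finset α)}
    (hB : IsSteinerSystem 2 5 B) {b c : Finset α} (hb : b ∈ B) (hc : c ∈ B) (hbc : b ≠ c) :
    (b ∩ c).card = 1 := by
  have hlt := inter_lt hB hb hc hbc
  have e0 := sum_interNum (L := 21) hB hb (Finset.empty_subset b) Finset.card_empty 0 (by norm_num)
    (by decide +kernel) (by rw [hα]; decide +kernel)
  have e1 := sum_interNum (L := 5) hB hb (Finset.empty_subset b) Finset.card_empty 1 (by norm_num)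
    (by decide +kernel) (by rw [hα]; decide +kernel)
  have h2 := interNum_big hB hb ∅ (j := 2) (by norm_num) (by norm_num)
  have h3 := interNum_big hB hb ∅ (j := 3) (by norm_num) (by norm_num)
  have h4 := interNum_big hB hb ∅ (j := 4) (by norm_num) (by norm_num)
  have h5 := interNum_self hB hb (Finset.empty_subset b)
  simp only [Finset.sum_range_succ, Finset.sum_range_zero, h2, h3, h4, h5] at e0 e1
  norm_num at e0 e1
  have hpos := interNum_pos_of_mem (b := b) hc
  interval_cases hj : (b ∩ c).card <;> omega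

theorem labelled21 (hα : Fintype.card α = 21) {B : Set (Finset α)} (hB : IsSteinerSystem 2 5 B) :
    Labelled B 21 std21 := by
  refine labelling_of_cert (ints := [1]) (by norm_num) hB hα (fun b hb c hc hne => ?_)
    (by decide) (fun _ _ _ h => h) (r := 3) rfl (known := []) (E := Fintype.equivFinOfCardEq hα)
    (by simp) (by decide +kernel) cert21
  simp [s2521_inter_card hα hB hb hc hne]

theorem labelled22 (hα : Fintype.card α = 22) {B : Set (Finset α)} (hB : IsSteinerSystem 3 6 B) :
    Labelled B 22 std22 := by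
  obtain ⟨p⟩ := Fintype.card_pos_iff.1 (show 0 < Fintype.card α by rw [hα]; norm_num)
  obtain ⟨E, hE⟩ := exists_extend (by norm_num)
    (labelled21 (card_subtype_ne hα p) (steiner_derived hB p)) hB
  refine labelling_of_cert (ints := [0, 2]) (by norm_num) hB hα (fun b hb c hc hne => ?_)
    (by decide) noDrop_sig (r := 3) rfl hE (by decide +kernel) cert22
  rcases s3622_inter_card hα hB hb hc hne with h | h <;> simp [h]

theorem card_symmDiff_two (u v : Finset α) :
    (symmDiff u v).card + 2 * (u ∩ v).card = u.card + v.card := by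
  have hd : symmDiff u v = (u \ v) ∪ (v \ u) := rfl
  rw [hd, Finset.card_union_of_disjoint disjoint_sdiff_sdiff]
  have h1 := Finset.card_sdiff_add_card_inter u v
  have h2 := Finset.card_sdiff_add_card_inter v u
  rw [Finset.inter_comm v u] at h2
  omega

/-- a set of seven points that is the sum of three blocks is a block -/
theorem s4723_sum_mem (hα : Fintype.card α = 23) {B : Set (Finset α)}
    (hB : IsSteinerSystem 4 7 B) {a b c : Finset α} (ha : a ∈ B) (hb : b ∈ B) (hc : c ∈ B)
    (h7 : (symmDiff (symmDiff a b) c).card = 7) : symmDiff (symmDiff a b) c ∈ B := by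
  set x := symmDiff (symmDiff a b) c
  have hodd : ∀ e ∈ B, ∀ d ∈ B, (e ∩ d).card % 2 = 1 := by
    intro e he d hd
    by_cases h : e = d
    · rw [h, Finset.inter_self, hB.1 d hd]
    · rcases s4723_inter_card hα hB he hd h with h' | h' <;> rw [h']
  have hxodd : ∀ e ∈ B, (e ∩ x).card % 2 = 1 := by
    intro e he
    have d1 : e ∩ symmDiff a b = symmDiff (e ∩ a) (e ∩ b) := inf_symmDiff_distrib_left e a b
    have d2 : e ∩ x = symmDiff (e ∩ symmDiff a b) (e ∩ c) := inf_symmDiff_distrib_left e _ c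
    rw [d2, d1]
    have h1 := card_symmDiff_two (e ∩ a) (e ∩ b)
    have h2 := card_symmDiff_two (symmDiff (e ∩ a) (e ∩ b)) (e ∩ c)
    have := hodd e he a ha
    have := hodd e he b hb
    have := hodd e he c hc
    omega
  obtain ⟨s, hs, hsc⟩ := Finset.exists_subset_card_eq (s := x) (n := 4) (by omega)
  obtain ⟨e, ⟨he, hse⟩, -⟩ := hB.2 s hsc
  have h4 : 4 ≤ (e ∩ x).card := hsc ▸ Finset.card_le_card (Finset.subset_inter hse hs)
  have h7' : (e ∩ x).card ≤ 7 := h7 ▸ Finset.card_le_card Finset.inter_subset_right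
  have h := hxodd e he
  by_cases hfull : (e ∩ x).card = 7
  · have h1 : e ∩ x = x :=
      Finset.eq_of_subset_of_card_le Finset.inter_subset_right (by omega)
    have h2 : e ∩ x = e :=
      Finset.eq_of_subset_of_card_le Finset.inter_subset_left (by rw [hB.1 e he]; omega)
    rw [← h1, h2]; exact he
  exfalso
  set w := symmDiff e x with hw
  have hw4 : w.card = 4 := by
    have := card_symmDiff_two e x
    rw [← hw, hB.1 e he, h7] at this
    omega
  have hwev : ∀ f ∈ B, (f ∩ w).card % 2 = 0 := by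
    intro f hf
    rw [show f ∩ w = symmDiff (f ∩ e) (f ∩ x) from inf_symmDiff_distrib_left f e x]
    have := card_symmDiff_two (f ∩ e) (f ∩ x)
    have := hodd f hf e he
    have := hxodd f hf
    omega
  obtain ⟨u, hu, huc⟩ := Finset.exists_subset_card_eq (s := w) (n := 3) (by omega)
  have h5 := card_blocksThrough_eq (L := 5) hB u huc (by norm_num) (by decide +kernel)
    (by rw [hα]; decide +kernel)
  have h1 := card_blocksThrough_eq (L := 1) hB w hw4 (by norm_num) (by decide +kernel)
    (by rw [hα]; decide +kernel)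
  have hsub : blocksThrough B u ⊆ blocksThrough B w := by
    intro f hf
    obtain ⟨hfB, huf⟩ := mem_blocksThrough.1 hf
    refine mem_blocksThrough.2 ⟨hfB, ?_⟩
    have h3 : 3 ≤ (f ∩ w).card := huc ▸ Finset.card_le_card (Finset.subset_inter huf hu)
    have h4' : (f ∩ w).card ≤ 4 := hw4 ▸ Finset.card_le_card Finset.inter_subset_right
    have := hwev f hfB
    have : f ∩ w = w := Finset.eq_of_subset_of_card_le Finset.inter_subset_right (by omega)
    rw [← this]; exact Finset.inter_subset_left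
  have := Finset.card_le_card hsub
  omega

theorem mem_of_checkRows (hα : Fintype.card α = 23) {B : Set (Finset α)}
    (hB : IsSteinerSystem 4 7 B) {E : α ≃ Fin 23} :
    ∀ (r : List (ℕ × ℕ × ℕ × ℕ)) (acc : List ℕ), checkRows r acc = true →
      (∀ y ∈ acc, y ∈ encSet E B) → ∀ e ∈ r, e.1 ∈ encSet E B := by
  intro r
  induction r with
  | nil => simp
  | cons e r ih =>
    obtain ⟨x, a, b, c⟩ := e
    intro acc h hacc
    simp only [checkRows, Bool.and_eq_true, List.any_eq_true, Nat.beq_eq] at h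
    obtain ⟨⟨⟨⟨⟨⟨ya, hya, rfl⟩, ⟨yb, hyb, rfl⟩⟩, ⟨yc, hyc, rfl⟩⟩, hx⟩, h7⟩, hr⟩ := h
    obtain ⟨A, hA, eA⟩ := hacc a hya
    obtain ⟨B', hB', eB⟩ := hacc b hyb
    obtain ⟨C, hC, eC⟩ := hacc c hyc
    have henc : enc E (symmDiff (symmDiff A B') C) = x := by
      rw [enc_symmDiff (by norm_num), enc_symmDiff (by norm_num), eA, eB, eC, hx]
    have hmem : x ∈ encSet E B := ⟨_, s4723_sum_mem hα hB hA hB' hC
      (by rw [← pop_enc (by norm_num : (23 : ℕ) ≤ 24) E, henc]; exact h7), henc⟩
    intro e he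
    rcases List.mem_cons.1 he with rfl | he
    · exact hmem
    · exact ih _ hr (fun y hy => by
        rcases List.mem_cons.1 hy with rfl | hy
        exacts [hmem, hacc y hy]) e he

/-- the first block off the extra point determines a system containing the standard blocks
through it -/
theorem encSet23_of_first (hα : Fintype.card α = 23) {B : Set (Finset α)}
    (hB : IsSteinerSystem 4 7 B) {E₁ : α ≃ Fin 23} (h2 : ∀ y ∈ known23, y ∈ encSet E₁ B)
    {e : ℕ × ℕ} (he : e ∈ wit23) (h1 : e.1 ∈ encSet E₁ B) :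
    ∃ E₂ : α ≃ Fin 23, (∀ b, enc E₂ b = actP e.2 (enc E₁ b)) ∧
      encSet E₂ B = {m | m ∈ std23} := by
  have hw := List.all_eq_true.1 cert23_wit e he
  simp only [Bool.and_eq_true, List.all_eq_true, List.any_eq_true, Nat.beq_eq] at hw
  obtain ⟨⟨hperm, hfirst⟩, hknown⟩ := hw
  obtain ⟨E₂, hE₂⟩ := exists_trans_actP (by norm_num) E₁ hperm
  -- the images of the known blocks are again all known blocks
  have hK : ∀ y ∈ known23, y ∈ encSet E₂ B := by
    have himg : ∀ y ∈ known23, actP e.2 y ∈ encSet E₂ B := by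
      intro y hy
      obtain ⟨c, hc, rfl⟩ := h2 y hy
      exact ⟨c, hc, hE₂ c⟩
    have hsub : known23.toFinset.image (actP e.2) ⊆ known23.toFinset := by
      intro z hz
      obtain ⟨y, hy, rfl⟩ := Finset.mem_image.1 hz
      obtain ⟨w, hw, hyw⟩ := hknown y (List.mem_toFinset.1 hy)
      rw [hyw]
      exact List.mem_toFinset.2 hw
    have hinj : Set.InjOn (actP e.2) known23.toFinset := by
      intro y hy y' hy' hyy
      obtain ⟨c, -, rfl⟩ := h2 y (List.mem_toFinset.1 hy)
      obtain ⟨c', -, rfl⟩ := h2 y' (List.mem_toFinset.1 hy')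
      rw [← hE₂, ← hE₂] at hyy
      rw [enc_injective (by norm_num) E₂ hyy]
    have heq := Finset.eq_of_subset_of_card_le hsub
      (by rw [Finset.card_image_of_injOn hinj])
    intro y hy
    rw [← List.mem_toFinset, ← heq, Finset.mem_image] at hy
    obtain ⟨z, hz, rfl⟩ := hy
    exact himg z (List.mem_toFinset.1 hz)
  have hf : first23 ∈ encSet E₂ B := by
    obtain ⟨c, hc, ec⟩ := h1
    exact ⟨c, hc, by rw [hE₂, ec, ← hfirst]⟩
  have hacc : ∀ y ∈ first23 :: known23, y ∈ encSet E₂ B := fun y hy => by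
    rcases List.mem_cons.1 hy with rfl | hy
    exacts [hf, hK y hy]
  have hrows := mem_of_checkRows hα hB rows23 _ cert23_rows hacc
  refine ⟨E₂, hE₂, ?_⟩
  refine eq_encSet_of_subset (E := E₂) (by norm_num) hα hB (by norm_num)
    (nodup_of_ascending (by decide +kernel)) (by decide +kernel) fun m hm => ?_
  have h := List.all_eq_true.1 cert23_covers m hm
  simp only [Bool.or_eq_true, List.any_eq_true, Nat.beq_eq] at h
  rcases h with ⟨y, hy, rfl⟩ | ⟨y, hy, rfl⟩
  · exact hacc _ hy
  · exact hrows y hy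

/-- one of the two listed first blocks occurs -/
theorem exists_first23 (hα : Fintype.card α = 23) {B : Set (Finset α)}
    (hB : IsSteinerSystem 4 7 B) {E : α ≃ Fin 23} (hE : ∀ y ∈ known23, y ∈ encSet E B) :
    ∃ e ∈ wit23, e.1 ∈ encSet E B := by
  have hI : InterOK B [1, 3] := fun b hb c hc hne => by
    rcases s4723_inter_card hα hB hb hc hne with h | h <;> simp [h]
  have hs : ∀ y ∈ known23, y &&& 15 ≠ 15 := fun y hy h => by
    have := List.all_eq_true.1 known23_free y hy
    simp [h] at this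
  obtain ⟨S₀, hS₀⟩ := exists_enc_eq (by norm_num) E (u := 15) (fun j hj => by
    by_contra hc
    rw [Nat.testBit_eq_false_of_lt (lt_of_lt_of_le (by norm_num : 15 < 2 ^ 4)
      (Nat.pow_le_pow_right (by norm_num) (by omega)))] at hj
    exact absurd hj (by decide))
  obtain ⟨b, ⟨hb, hSb⟩, -⟩ := hB.2 S₀ (by rw [← pop_enc (by norm_num) E, hS₀]; decide +kernel)
  obtain ⟨E₁, x, hx, h1, h2, h3, h4⟩ := mem_ext (by norm_num) hI (mx := 3) (by decide)
    (drop := fun _ _ => false) (ch := known23) (s := 15)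
    (fun _ _ h => absurd h (by simp)) hs 23 (List.range 23) (by simp)
    (fun j hj => List.mem_range.1 hj) 3 15 E (enc E b) ⟨b, hb, rfl⟩ hE (fun _ h => h)
    (fun j hj => by
      rw [← hS₀, testBit_enc (by norm_num)] at hj
      obtain ⟨a, ha, e⟩ := hj
      exact (testBit_enc (by norm_num) E b j).2 ⟨a, hSb ha, e⟩)
    (fun j hj => Or.inr (List.mem_range.2 (lt_of_testBit_enc (by norm_num) E b hj)))
    (by rw [pop_enc (by norm_num), hB.1 b hb]; decide +kernel)
  have hx15 : x &&& 15 = 15 := Nat.eq_of_testBit_eq fun j => by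
    rw [Nat.testBit_and]
    cases hj : (15 : ℕ).testBit j
    · simp
    · simp [h3 j hj]
  have hfull : okFull [1, 3] known23 x = true := by
    simp only [okFull, List.all_eq_true, List.any_eq_true, Nat.beq_eq]
    intro y hy
    exact ⟨_, pop_and_mem (by norm_num) E₁ hI h1 (h2 y hy) (fun e => hs y hy (e ▸ hx15)), rfl⟩
  obtain ⟨e, he, hex⟩ :=
    List.any_eq_true.1 (List.all_eq_true.1 cert23_first x (List.mem_filter.2 ⟨hx, hfull⟩))
  refine ⟨e, he, ?_⟩
  rw [Nat.beq_eq] at hex
  rw [h4 (fun _ _ => rfl)] at h1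
  exact hex ▸ h1

theorem labelled23 (hα : Fintype.card α = 23) {B : Set (Finset α)} (hB : IsSteinerSystem 4 7 B) :
    Labelled B 23 std23 := by
  obtain ⟨p⟩ := Fintype.card_pos_iff.1 (show 0 < Fintype.card α by rw [hα]; norm_num)
  obtain ⟨E, hE⟩ := exists_extend (by norm_num)
    (labelled22 (card_subtype_ne hα p) (steiner_derived hB p)) hB
  obtain ⟨e, he, h1⟩ := exists_first23 hα hB hE
  obtain ⟨E₂, -, h⟩ := encSet23_of_first hα hB hE he h1
  exact ⟨E₂, h⟩

theorem labelled24 (hα : Fintype.card α = 24) {B : Set (Finset α)} (hB : IsSteinerSystem 5 8 B) :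
    Labelled B 24 octadList := by
  obtain ⟨p⟩ := Fintype.card_pos_iff.1 (show 0 < Fintype.card α by rw [hα]; norm_num)
  obtain ⟨E, hE⟩ := exists_extend (by norm_num)
    (labelled23 (card_subtype_ne hα p) (steiner_derived hB p)) hB
  refine eq_std_of_subset (E := E) (by norm_num) hα hB (by norm_num) octadList_nodup
    (by rw [octadList_spec.2.2.2]; decide +kernel) fun m hm => ?_
  have hc := cert24
  simp only [Bool.and_eq_true, Nat.beq_eq, List.all_eq_true, Bool.or_eq_true,
    List.any_eq_true] at hc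
  obtain ⟨i, hi, rfl⟩ := List.getElem_of_mem hm
  rcases hc.2 (octadList[i], part24[i]'(hc.1 ▸ hi)) (List.mem_iff_getElem.2
    ⟨i, by rw [List.length_zip, ← hc.1]; simpa using hi, by rw [List.getElem_zip]⟩) with
    ⟨-, y, hy, e⟩ | ⟨⟨⟨y, hy, e⟩, ⟨z, hz, e'⟩⟩, h4⟩
  · have he : octadList[i] = y := e
    rw [he]; exact hE y hy
  · obtain ⟨b, hb, eb⟩ := hE y hy
    obtain ⟨c, hc, ec⟩ := hE z hz
    refine ⟨symmDiff b c, s5824_symmDiff_mem hα hB hb hc ?_, ?_⟩
    · rw [← pop_enc (by norm_num : (24 : ℕ) ≤ 24) E, ← enc_and (by norm_num), eb, ec, ← e, ← e']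
      exact h4
    · rw [enc_symmDiff (by norm_num), eb, ec, ← e, ← e']
      simp [Nat.xor_comm, Nat.xor_left_comm]

end CfsgLib.SteinerUnique
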